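import Groth.Agent.NonAbH1.K597.GalLoc

/-!
# Finite Galois coverings refining an étale covering of a discrete valuation ring

* `exists_point`, `exists_galois`
* `exists_cover` : for `B → Spec R` étale surjective, `R` a DVR with fraction field `K` and `M/K` finite separable, there is
  a finite Galois `L/K` containing `M` such that Zariski locally the normalization `Spec C → Spec R` in `L` lifts to `B`.
-/

set_option autoImplicit false
set_option backward.isDefEq.respectTransparency false
set_option backward.isDefEq.respectTransparency.types false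
universe u
open CategoryTheory CategoryTheory.Limits AlgebraicGeometry IsLocalRing

namespace K597.GalCov

theorem exists_point {R A K : Type u} [CommRing R] [IsDomain R] [CommRing A] [Algebra R A] [Algebra.Etale R A]
    [Field K] [Algebra R K] [IsFractionRing R K] (n : Ideal A) [n.IsPrime] :
    ∃ (F : Type u) (_ : Field F) (_ : Algebra K F), FiniteDimensional K F ∧ Algebra.IsSeparable K F ∧
      ∃ ψ : Localization.AtPrime n →+* F, ψ.comp (algebraMap R _) = (algebraMap K F).comp (algebraMap R K) := by
  obtain ⟨p, hpn, hp, hp0⟩ := Ideal.exists_ideal_le_liesOver_of_le (R := R) (p := ⊥) (q := n.under R) n bot_le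
  have hinj : Function.Injective (algebraMap R p.ResidueField) := by
    rw [injective_iff_map_eq_zero]
    intro r hr
    rw [IsScalarTower.algebraMap_apply R A p.ResidueField, Ideal.algebraMap_residueField_eq_zero] at hr
    have : r ∈ p.under R := hr
    rw [← hp0.over] at this
    exact this
  let f : K →+* p.ResidueField := IsFractionRing.lift hinj
  let _ : Algebra K p.ResidueField := f.toAlgebra
  have : IsScalarTower R K p.ResidueField := IsScalarTower.of_algebraMap_eq fun r => by
    change _ = IsFractionRing.lift hinj (algebraMap R K r)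
    rw [IsFractionRing.lift_algebraMap]
  have h1 : Algebra.EssFiniteType R p.ResidueField := .comp R A _
  have h2 : Algebra.EssFiniteType K p.ResidueField := .of_comp R K _
  have h3 : Algebra.FormallyUnramified R p.ResidueField := by
    have : Algebra.FormallyUnramified A (Localization.AtPrime p) := .of_isLocalization p.primeCompl
    have : Algebra.FormallyUnramified (Localization.AtPrime p) p.ResidueField := .of_surjective (Algebra.ofId _ _) IsLocalRing.residue_surjective
    have : Algebra.FormallyUnramified A p.ResidueField := .comp A (Localization.AtPrime p) _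
    exact .comp R A _
  have h4 : Algebra.FormallyUnramified K p.ResidueField := .of_restrictScalars R K _
  refine ⟨p.ResidueField, inferInstance, inferInstance, Algebra.FormallyUnramified.finite_of_free _ _, Algebra.FormallyUnramified.isSeparable _ _, ?_⟩
  have hu : ∀ s : n.primeCompl, IsUnit (algebraMap A p.ResidueField s) := fun s => by
    rw [isUnit_iff_ne_zero, Ne, Ideal.algebraMap_residueField_eq_zero]
    exact fun h => s.2 (hpn h)
  refine ⟨IsLocalization.lift (M := n.primeCompl) hu, ?_⟩
  ext r
  rw [RingHom.comp_apply, RingHom.comp_apply, IsScalarTower.algebraMap_apply R A (Localization.AtPrime n), IsLocalization.lift_eq,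
    ← IsScalarTower.algebraMap_apply, ← IsScalarTower.algebraMap_apply]

/-- Two finite separable extensions embed in a finite Galois extension. -/
theorem exists_galois {K : Type u} [Field K] (F₁ F₂ : Type u) [Field F₁] [Field F₂] [Algebra K F₁] [Algebra K F₂]
    [FiniteDimensional K F₁] [FiniteDimensional K F₂] [Algebra.IsSeparable K F₁] [Algebra.IsSeparable K F₂] :
    ∃ (L : Type u) (_ : Field L) (_ : Algebra K L), FiniteDimensional K L ∧ IsGalois K L ∧ Nonempty (F₁ →ₐ[K] L) ∧
      Nonempty (F₂ →ₐ[K] L) := by
  let f₁ : F₁ →ₐ[K] SeparableClosure K := IsSepClosed.lift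
  let f₂ : F₂ →ₐ[K] SeparableClosure K := IsSepClosed.lift
  let E : IntermediateField K (SeparableClosure K) := f₁.fieldRange ⊔ f₂.fieldRange
  have e1 : FiniteDimensional K f₁.fieldRange := (AlgEquiv.ofInjectiveField f₁).toLinearEquiv.finiteDimensional
  have e2 : FiniteDimensional K f₂.fieldRange := (AlgEquiv.ofInjectiveField f₂).toLinearEquiv.finiteDimensional
  have e3 : Algebra.IsSeparable K f₁.fieldRange := Algebra.IsSeparable.of_algHom K F₁ (AlgEquiv.ofInjectiveField f₁).symm.toAlgHom
  have e4 : Algebra.IsSeparable K f₂.fieldRange := Algebra.IsSeparable.of_algHom K F₂ (AlgEquiv.ofInjectiveField f₂).symm.toAlgHom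
  have e5 : FiniteDimensional K E := IntermediateField.finiteDimensional_sup _ _
  have e6 : Algebra.IsSeparable K E := inferInstance
  have hE : E ≤ IntermediateField.normalClosure K E (SeparableClosure K) := IntermediateField.le_normalClosure E
  refine ⟨IntermediateField.normalClosure K E (SeparableClosure K), inferInstance, inferInstance, inferInstance, inferInstance, ⟨?_⟩, ⟨?_⟩⟩
  · exact (IntermediateField.inclusion (le_sup_left.trans hE)).comp (AlgEquiv.ofInjectiveField f₁).toAlgHom
  · exact (IntermediateField.inclusion (le_sup_right.trans hE)).comp (AlgEquiv.ofInjectiveField f₂).toAlgHom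


/-- **Finite Galois refinement of an étale covering of a DVR.** -/
theorem exists_cover (R : Type u) [CommRing R] [IsDomain R] [IsDiscreteValuationRing R] (K : Type u) [Field K]
    [Algebra R K] [IsFractionRing R K] (B : Over (Spec (CommRingCat.of R))) [Etale B.hom] [Surjective B.hom]
    (M : Type u) [Field M] [Algebra K M] [FiniteDimensional K M] [Algebra.IsSeparable K M] :
    ∃ (L : Type u) (_ : Field L) (_ : Algebra K L) (_ : Algebra R L) (_ : IsScalarTower R K L),
      FiniteDimensional K L ∧ IsGalois K L ∧ Nonempty (M →ₐ[K] L) ∧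
      ∀ t : Spec (CommRingCat.of (integralClosure R L)), ∃ (W : (Spec (CommRingCat.of (integralClosure R L))).Opens)
        (_ : t ∈ W) (b : W.toScheme ⟶ B.left), b ≫ B.hom =
          W.ι ≫ Spec.map (CommRingCat.ofHom (algebraMap R (integralClosure R L))) := by
  obtain ⟨b0, hb0⟩ := Surjective.surj (f := B.hom) (closedPoint R : Spec (CommRingCat.of R))
  obtain ⟨_, ⟨U, hU, rfl⟩, hbU, -⟩ := B.left.isBasis_affineOpens.exists_subset_of_mem_open (Set.mem_univ b0) isOpen_univ
  let A := Γ(B.left, U)
  let i : Spec A ⟶ B.left := hU.fromSpec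
  obtain ⟨f, hf⟩ := Spec.map_surjective (i ≫ B.hom)
  let _ : Algebra R A := f.hom.toAlgebra
  have hAet : Algebra.Etale R A := by
    have h1 : Etale (Spec.map f) := by rw [hf]; infer_instance
    exact (HasRingHomProperty.Spec_iff (P := @Etale)).1 h1
  let x0 : Spec A := hU.primeIdealOf ⟨b0, hbU⟩
  have hx0 : i x0 = b0 := hU.fromSpec_primeIdealOf ⟨b0, hbU⟩
  let n : Ideal A := x0.asIdeal
  obtain ⟨F, _, _, hF1, hF2, ψ, hψ⟩ := exists_point (R := R) (K := K) n
  obtain ⟨L, _, _, hL1, hL2, ⟨jF⟩, hM⟩ := exists_galois (K := K) F M
  let _ : Algebra R L := ((algebraMap K L).comp (algebraMap R K)).toAlgebra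
  have hst : IsScalarTower R K L := IsScalarTower.of_algebraMap_eq fun r => rfl
  refine ⟨L, inferInstance, inferInstance, inferInstance, hst, hL1, hL2, hM, ?_⟩
  let C := integralClosure R L
  have hCD : IsDedekindDomain C := IsIntegralClosure.isDedekindDomain R K L C
  have hloc : IsLocalHom (algebraMap R (Localization.AtPrime n)) := by
    have h1 : (Spec.map f) x0 = closedPoint R := by
      rw [hf, Scheme.Hom.comp_apply, hx0, hb0]
    have h2 : n.comap (algebraMap R A) = maximalIdeal R := congrArg PrimeSpectrum.asIdeal h1
    refine ⟨fun r hr => ?_⟩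
    by_contra hru
    have h3 : r ∈ maximalIdeal R := hru
    rw [← h2, Ideal.mem_comap] at h3
    rw [IsScalarTower.algebraMap_apply R A (Localization.AtPrime n)] at hr
    exact (IsLocalization.AtPrime.isUnit_to_map_iff (Localization.AtPrime n) n _).1 hr h3
  -- lifts near the closed points
  have key : ∀ t : Spec (CommRingCat.of C), t.asIdeal.IsMaximal →
      ∃ (W : (Spec (CommRingCat.of C)).Opens) (_ : t ∈ W) (b : W.toScheme ⟶ B.left), b ≫ B.hom =
          W.ι ≫ Spec.map (CommRingCat.ofHom (algebraMap R C)) := by
    intro t ht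
    obtain ⟨φ, hφ⟩ := GalLoc.exists_hom (K := K) (C := C) ((jF : F →+* L).comp ψ) (by
      rw [RingHom.comp_assoc, hψ, ← RingHom.comp_assoc]
      have : (jF : F →+* L).comp (algebraMap K F) = algebraMap K L := jF.comp_algebraMap
      rw [this]; rfl) t.asIdeal
    let st := (Spec (CommRingCat.of C)).presheaf.stalk t
    have hst' : ∀ y : t.asIdeal.primeCompl, IsUnit ((StructureSheaf.toStalk C t).hom y) := fun y =>
      IsLocalization.map_units (M := t.asIdeal.primeCompl) ((Spec.structureSheaf C).presheaf.stalk t) y
    let θ : Localization.AtPrime t.asIdeal →+* st := IsLocalization.lift (M := t.asIdeal.primeCompl) hst'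
    have hθ : θ.comp (algebraMap C _) = (StructureSheaf.toStalk C t).hom := IsLocalization.lift_comp _
    let κ : A ⟶ st := CommRingCat.ofHom (θ.comp (φ.comp (algebraMap A (Localization.AtPrime n))))
    obtain ⟨W, hW, b, -, hb⟩ := spread_out_of_isGermInjective' (X := Spec (CommRingCat.of C)) (Y := B.left)
      (Spec.map (CommRingCat.ofHom (algebraMap R C))) B.hom (x := t) (Spec.map κ ≫ i) (by
        rw [Category.assoc, ← hf, Spec.fromSpecStalk_eq', ← Spec.map_comp, ← Spec.map_comp]
        congr 1
        ext r
        change θ (φ (algebraMap A _ (f r))) = (StructureSheaf.toStalk C t).hom (algebraMap R C r)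
        have h0 : θ (algebraMap C (Localization.AtPrime t.asIdeal) (algebraMap R C r)) =
            (StructureSheaf.toStalk C t).hom (algebraMap R C r) := congrArg (fun g : C →+* _ => g (algebraMap R C r)) hθ
        refine Eq.trans (congrArg θ ?_) h0
        have h1 : φ (algebraMap R (Localization.AtPrime n) r) = algebraMap R (Localization.AtPrime t.asIdeal) r :=
          congrArg (fun g : R →+* _ => g r) hφ
        exact h1)
    exact ⟨W, hW, b, hb⟩
  intro t
  obtain ⟨m, hm, htm⟩ := t.asIdeal.exists_le_maximal t.2.ne_top
  obtain ⟨W, hW, b, hb⟩ := key ⟨m, hm.isPrime⟩ hm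
  refine ⟨W, ?_, b, hb⟩
  have h1 : t ⤳ (⟨m, hm.isPrime⟩ : PrimeSpectrum C) := (PrimeSpectrum.le_iff_specializes t _).1 htm
  exact h1.mem_open W.isOpen hW

end K597.GalCov
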