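import Mathlib

/-!
# Local homs to the localizations of a Galois closure

`exists_hom` : `R` a DVR, `L/K` finite Galois over `K = Frac R`, `C` the integral closure of `R` in `L`, `E` a local
`R`-algebra with a homomorphism `ψ : E → L` over `R`: for every maximal ideal `m` of `C` there is an `R`-homomorphism
`E → C_m`.
-/

set_option autoImplicit false
universe u v

namespace K597.GalLoc

variable {R K L C : Type*} [CommRing R] [IsDomain R] [IsDiscreteValuationRing R] [Field K] [Field L] [Algebra R K]
  [IsFractionRing R K] [Algebra K L] [Algebra R L] [IsScalarTower R K L] [CommRing C] [IsDomain C] [Algebra R C]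
  [Algebra C L] [IsScalarTower R C L] [IsIntegralClosure C R L]

include K in
/-- Some localization of the integral closure works. -/
theorem exists_prime [FiniteDimensional K L] [Algebra.IsSeparable K L] {E : Type*} [CommRing E] [IsLocalRing E]
    [Algebra R E] [IsLocalHom (algebraMap R E)] (ψ : E →+* L) (hψ : ψ.comp (algebraMap R E) = algebraMap R L) :
    ∃ (m : Ideal C) (_ : m.IsPrime), m.comap (algebraMap R C) = IsLocalRing.maximalIdeal R ∧
      ∀ e : E, ∃ a s : C, s ∉ m ∧ algebraMap C L s * ψ e = algebraMap C L a := by
  have := IsIntegralClosure.isDedekindDomain R K L C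
  have : IsFractionRing C L := IsIntegralClosure.isFractionRing_of_finite_extension R K L C
  have hint : Algebra.IsIntegral R C := IsIntegralClosure.isIntegral_algebra R L
  obtain ⟨V, hV, hloc⟩ := IsLocalRing.exists_factor_valuationRing ψ
  have hR : ∀ r : R, algebraMap R L r ∈ V := fun r => by
    rw [← hψ]; exact hV _
  let ρ : R →+* V := (algebraMap R L).codRestrict V.toSubring hR
  have hCV : ∀ c : C, algebraMap C L c ∈ V := by
    intro c
    have h1 : IsIntegral R (algebraMap C L c) := (hint.isIntegral c).map (IsScalarTower.toAlgHom R C L)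
    let _ : Algebra R V := ρ.toAlgebra
    have : IsScalarTower R V L := IsScalarTower.of_algebraMap_eq fun r => rfl
    have h2 : IsIntegral V (algebraMap C L c) := h1.tower_top
    obtain ⟨y, hy⟩ := IsIntegrallyClosed.isIntegral_iff.1 h2
    rw [← hy]
    exact y.2
  let j : C →+* V := (algebraMap C L).codRestrict V.toSubring hCV
  let m : Ideal C := (IsLocalRing.maximalIdeal V).comap j
  have hm : m.IsPrime := Ideal.comap_isPrime _ _
  have hmR : m.comap (algebraMap R C) = IsLocalRing.maximalIdeal R := by
    ext r
    rw [Ideal.mem_comap, Ideal.mem_comap, IsLocalRing.mem_maximalIdeal, IsLocalRing.mem_maximalIdeal, mem_nonunits_iff,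
      mem_nonunits_iff, not_iff_not]
    have e : j (algebraMap R C r) = (ψ.codRestrict V.toSubring hV) (algebraMap R E r) := by
      apply Subtype.ext
      change algebraMap C L (algebraMap R C r) = ψ (algebraMap R E r)
      rw [← IsScalarTower.algebraMap_apply, ← hψ]
      rfl
    rw [e]
    constructor
    · intro h
      exact isUnit_of_map_unit (algebraMap R E) _ (isUnit_of_map_unit (ψ.codRestrict V.toSubring hV) _ h)
    · intro h
      exact (h.map (algebraMap R E)).map _
  refine ⟨m, hm, hmR, fun e => ?_⟩
  have hm0 : m ≠ ⊥ := by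
    rintro h
    rw [h] at hmR
    have h1 : (⊥ : Ideal C).comap (algebraMap R C) = ⊥ := by
      have hi : Function.Injective (algebraMap R C) := by
        have : Function.Injective (algebraMap R L) := by
          rw [IsScalarTower.algebraMap_eq R K L]
          exact (algebraMap K L).injective.comp (IsFractionRing.injective R K)
        rw [IsScalarTower.algebraMap_eq R C L] at this
        exact Function.Injective.of_comp this
      rw [← RingHom.ker_eq_comap_bot, (RingHom.injective_iff_ker_eq_bot _).1 hi]
    rw [h1] at hmR
    exact IsDiscreteValuationRing.not_a_field R hmR.symm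
  have hdvr : IsDiscreteValuationRing (Localization.AtPrime m) :=
    IsLocalization.AtPrime.isDiscreteValuationRing_of_dedekind_domain C hm0 _
  let _ : Algebra (Localization.AtPrime m) L := (IsLocalization.lift (M := m.primeCompl) (g := algebraMap C L)
    (fun s => by
      rw [isUnit_iff_ne_zero]
      intro h
      have := (FaithfulSMul.algebraMap_injective C L) (h.trans (map_zero _).symm)
      exact s.2 (this ▸ m.zero_mem))).toAlgebra
  have : IsScalarTower C (Localization.AtPrime m) L := IsScalarTower.of_algebraMap_eq fun c => by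
    change _ = IsLocalization.lift _ (algebraMap C (Localization.AtPrime m) c)
    rw [IsLocalization.lift_eq]
  have : IsFractionRing (Localization.AtPrime m) L :=
    IsFractionRing.isFractionRing_of_isDomain_of_isLocalization m.primeCompl _ _
  rcases ValuationRing.isInteger_or_isInteger (Localization.AtPrime m) (ψ e) with ⟨x, hx⟩ | ⟨x, hx⟩
  · obtain ⟨⟨a, s⟩, hs⟩ := IsLocalization.surj m.primeCompl x
    refine ⟨a, s, s.2, ?_⟩
    rw [← hx, IsScalarTower.algebraMap_apply C (Localization.AtPrime m) L,
      IsScalarTower.algebraMap_apply C (Localization.AtPrime m) L, ← map_mul, mul_comm, hs]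
  · by_cases h0 : ψ e = 0
    · exact ⟨0, 1, fun h => hm.ne_top ((Ideal.eq_top_iff_one _).2 h), by simp [h0]⟩
    obtain ⟨⟨a, s⟩, hs⟩ := IsLocalization.surj m.primeCompl x
    have h1 : algebraMap C L s = algebraMap C L a * ψ e := by
      have h2 := congrArg (algebraMap (Localization.AtPrime m) L) hs
      rw [map_mul, hx, ← IsScalarTower.algebraMap_apply, ← IsScalarTower.algebraMap_apply] at h2
      rw [← h2]
      field_simp
    by_cases ha : a ∈ m
    · exfalso
      apply s.2
      change j s ∈ IsLocalRing.maximalIdeal V
      have : j s = j a * ⟨ψ e, hV e⟩ := Subtype.ext h1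
      rw [this]
      exact Ideal.mul_mem_right _ _ ha
    · exact ⟨s, a, ha, h1.symm⟩

/-- **Homs to the localizations of a Galois closure.** -/
theorem exists_hom [FiniteDimensional K L] [IsGalois K L] {E : Type*} [CommRing E] [IsLocalRing E]
    [Algebra R E] [IsLocalHom (algebraMap R E)] (ψ : E →+* L) (hψ : ψ.comp (algebraMap R E) = algebraMap R L)
    (m : Ideal C) [m.IsMaximal] :
    ∃ φ : E →+* Localization.AtPrime m, φ.comp (algebraMap R E) = algebraMap R (Localization.AtPrime m) := by
  have := IsIntegralClosure.isDedekindDomain R K L C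
  have : IsFractionRing C L := IsIntegralClosure.isFractionRing_of_finite_extension R K L C
  have hint : Algebra.IsIntegral R C := IsIntegralClosure.isIntegral_algebra R L
  obtain ⟨m₁, hm₁, hm₁R, h⟩ := exists_prime (K := K) (C := C) ψ hψ
  have hmR : m.comap (algebraMap R C) = IsLocalRing.maximalIdeal R :=
    IsLocalRing.eq_maximalIdeal (Ideal.isMaximal_comap_of_isIntegral_of_isMaximal m)
  have hP1 : m ∈ Ideal.primesOver (IsLocalRing.maximalIdeal R) C := ⟨inferInstance, ⟨hmR.symm⟩⟩
  have hP2 : m₁ ∈ Ideal.primesOver (IsLocalRing.maximalIdeal R) C := ⟨inferInstance, ⟨hm₁R.symm⟩⟩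
  obtain ⟨σ, hσ⟩ := Ideal.exists_comap_galRestrict_eq R K L C hP1 hP2
  let f : C →+* C := (galRestrict R K L C σ : C →+* C)
  have hf : m₁ = m.comap f := hσ.symm
  -- the hom `E → C_{m₁}`
  have hunit : ∀ s : m₁.primeCompl, IsUnit (algebraMap C L s) := fun s => by
    rw [isUnit_iff_ne_zero]
    intro h
    have := (FaithfulSMul.algebraMap_injective C L) (h.trans (map_zero _).symm)
    exact s.2 (this ▸ m₁.zero_mem)
  let i : Localization.AtPrime m₁ →+* L := IsLocalization.lift (M := m₁.primeCompl) (g := algebraMap C L) hunit
  have hi : ∀ c, i (algebraMap C _ c) = algebraMap C L c := fun c => IsLocalization.lift_eq _ _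
  have hinj : Function.Injective i := by
    apply IsLocalization.lift_injective_iff hunit |>.2
    intro x y
    rw [(FaithfulSMul.algebraMap_injective C L).eq_iff,
      (IsLocalization.injective (Localization.AtPrime m₁) m₁.primeCompl_le_nonZeroDivisors).eq_iff]
  have hmem : ∀ e, ψ e ∈ i.range := by
    intro e
    obtain ⟨a, s, hs, has⟩ := h e
    exact ⟨IsLocalization.mk' (M := m₁.primeCompl) _ a ⟨s, hs⟩, (IsLocalization.lift_mk'_spec _ _ _ _).2 has.symm⟩
  let ψ' : E →+* Localization.AtPrime m₁ :=
    ((RingEquiv.ofBijective i.rangeRestrict ⟨fun x y hxy => hinj (congrArg Subtype.val hxy),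
      i.rangeRestrict_surjective⟩).symm : i.range →+* _).comp (ψ.codRestrict i.range hmem)
  have hψ' : ∀ e, i (ψ' e) = ψ e := by
    intro e
    exact congrArg Subtype.val (RingEquiv.apply_symm_apply (RingEquiv.ofBijective i.rangeRestrict ⟨fun x y hxy => hinj (congrArg Subtype.val hxy),
      i.rangeRestrict_surjective⟩) (ψ.codRestrict i.range hmem e))
  refine ⟨(Localization.localRingHom m₁ m f hf).comp ψ', ?_⟩
  ext r
  rw [RingHom.comp_apply, RingHom.comp_apply]
  have e1 : ψ' (algebraMap R E r) = algebraMap C _ (algebraMap R C r) := by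
    apply hinj
    rw [hψ', hi, ← IsScalarTower.algebraMap_apply, ← hψ]
    rfl
  rw [e1, Localization.localRingHom_to_map, IsScalarTower.algebraMap_apply R C (Localization.AtPrime m)]
  congr 1
  exact (galRestrict R K L C σ).commutes r

end K597.GalLoc
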