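import Groth.Agent.AlgSp.K622.Trans
import Groth.Agent.Ega4dB.SmoothReg
import Groth.Agent.VarietyA.SmoothReg
import Groth.Agent.Desc.IntEff
import Groth.Agent.S1471

/-!
# Generic translations, part A: points, generic points of fibres, local rings

* `IsMax` (maximal points) and flat maps; `isMaxFib_fst` ;
* `isIntegral_of_flat_preimmersion`;
* `isRegular`, `isDVR` for smooth schemes over a Dedekind domain.
-/

set_option autoImplicit false
set_option backward.isDefEq.respectTransparency false
set_option backward.isDefEq.respectTransparency.types false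
universe u

open CategoryTheory CategoryTheory.Limits AlgebraicGeometry
open K622.FibPts (IsMaxFib toStalk)

namespace K597.GenTrA

section top

/-- maximal points -/
def IsMax {X : Scheme.{u}} (x : X) : Prop := ∀ z : X, z ⤳ x → z = x

theorem isMax_genericPoint (X : Scheme.{u}) [IrreducibleSpace X] : IsMax (genericPoint X) :=
  fun _ hz => (hz.antisymm (genericPoint_specializes _)).eq

theorem IsMax.map {X Y : Scheme.{u}} {x : X} (hx : IsMax x) (f : X ⟶ Y) [Flat f] : IsMax (f x) := by
  intro z hz
  obtain ⟨x', hx', rfl⟩ := Flat.generalizingMap f hz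
  rw [hx x' hx']

theorem isMaxFib_of_fiber {Y S : Scheme.{u}} (f : Y ⟶ S) (s : S) {w : f.fiber s} (h : IsMax w) :
    IsMaxFib f (f.fiberι s w) := by
  intro z hz hzs
  have h1 : f z = s := by
    rw [hzs]
    have : f.fiberι s w ∈ Set.range (f.fiberι s) := ⟨w, rfl⟩
    rw [f.range_fiberι] at this
    exact this
  have h2 : z ∈ Set.range (f.fiberι s) := by
    rw [f.range_fiberι]; exact h1
  obtain ⟨z', rfl⟩ := h2
  have h3 : z' ⤳ w := (Scheme.Hom.isEmbedding (f.fiberι s)).isInducing.specializes_iff.1 hz
  rw [h z' h3]

/-- maximal points of a base change to a field lie over maximal points of the fibre. -/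
theorem isMaxFib_fst {Y S : Scheme.{u}} (f : Y ⟶ S) {k : Type u} [Field k] (t : Spec (CommRingCat.of k) ⟶ S)
    {w : ↥(pullback f t)} (h : IsMax w) : IsMaxFib f (pullback.fst f t w) := by
  obtain ⟨⟨s, φ⟩, rfl⟩ := (Scheme.SpecToEquivOfField k S).symm.surjective t
  change ↥(pullback f (Spec.map φ ≫ S.fromSpecResidueField s)) at w
  change IsMaxFib f (pullback.fst f (Spec.map φ ≫ S.fromSpecResidueField s) w)
  let m : pullback f (Spec.map φ ≫ S.fromSpecResidueField s) ⟶ f.fiber s :=
    pullback.lift (pullback.fst _ _) (pullback.snd _ _ ≫ Spec.map φ) (by rw [Category.assoc]; exact pullback.condition)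
  have hm : m ≫ f.fiberι s = pullback.fst f (Spec.map φ ≫ S.fromSpecResidueField s) := pullback.lift_fst _ _ _
  have hp : IsPullback m (pullback.snd _ _) (f.fiberToSpecResidueField s) (Spec.map φ) := by
    refine IsPullback.of_right ?_ (pullback.lift_snd _ _ _) (IsPullback.of_hasPullback f (S.fromSpecResidueField s))
    rw [pullback.lift_fst]
    exact IsPullback.of_hasPullback _ _
  have hfl : Flat m := by
    have : Flat (Spec.map φ) := Groth.Agent.Desc.IntEff.flat_of_field (K := S.residueField s) _
    exact MorphismProperty.of_isPullback (P := @Flat) hp.flip this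
  rw [← hm, Scheme.Hom.comp_apply]
  exact isMaxFib_of_fiber f s (h.map m)

end top

theorem isIntegral_of_flat_preimmersion {X Y : Scheme.{u}} (f : X ⟶ Y) [Flat f] [IsPreimmersion f] [IsIntegral Y]
    [Nonempty X] : IsIntegral X := by
  have h1 : IsReduced X := Groth.Agent.S1471.isReduced_of_flat_preimmersion f
  obtain ⟨x⟩ := ‹Nonempty X›
  obtain ⟨g, -, hg⟩ := Flat.generalizingMap f (genericPoint_specializes (f x))
  have h2 : ∀ y : X, g ⤳ y := fun y => by
    refine (Scheme.Hom.isEmbedding f).isInducing.specializes_iff.1 ?_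
    rw [hg]
    exact genericPoint_specializes _
  have h3 : IrreducibleSpace X :=
    { isPreirreducible_univ := by
        have : (Set.univ : Set X) = closure {g} := by
          ext y; simpa using (h2 y).mem_closure
        rw [this]
        exact isIrreducible_singleton.closure.2
      toNonempty := ⟨x⟩ }
  exact isIntegral_of_irreducibleSpace_of_isReduced X

/-- The base change of an integral scheme to a local scheme is integral. -/
theorem isIntegral_pullback_fromSpecStalk {Z N : Scheme.{u}} (g : Z ⟶ N) (x : N) [IsIntegral Z]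
    [Nonempty ↥(pullback g (N.fromSpecStalk x))] : IsIntegral (pullback g (N.fromSpecStalk x)) := by
  have := Groth.Agent.S1471.flat_fromSpecStalk N x
  exact isIntegral_of_flat_preimmersion (pullback.fst g (N.fromSpecStalk x))

section reg

variable {R : Type u} [CommRing R] [IsDedekindDomain R] {N : Scheme.{u}}

theorem isRegular (f : N ⟶ Spec (CommRingCat.of R)) [Smooth f] (x : N) : IsRegularLocalRing (N.presheaf.stalk x) := by
  apply Groth.Agent.Ega4dB.SmoothReg.isRegularLocalRing_stalk_of_smooth f x
  have h : IsRegularLocalRing (Localization.AtPrime (f x).asIdeal) := inferInstance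
  exact IsRegularLocalRing.of_ringEquiv (StructureSheaf.stalkIso R (f x)).toRingEquiv

theorem isDVR (f : N ⟶ Spec (CommRingCat.of R)) [Smooth f] [IsIntegral N] {x : N} (hx : IsMaxFib f x) {ϖ : R} (hϖ : ϖ ≠ 0) (h : (f x).asIdeal = Ideal.span {ϖ}) :
    IsDiscreteValuationRing (N.presheaf.stalk x) := by
  have := isRegular f x
  have : IsLocallyNoetherian N := LocallyOfFiniteType.isLocallyNoetherian f
  exact Groth.Agent.VarietyA.SmoothReg.isDiscreteValuationRing_of_isRegularLocalRing _
    (K622.FibPts.dim_stalk f hx hϖ h)

end reg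

end K597.GenTrA
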