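import Groth.Agent.NonAbH1.K554.FibAct
import Groth.Agent.NonAbH1.K551.Tors
import Groth.Agent.AlgSp.K594.Cover
import Groth.Agent.Desc.LocalRep
import Groth.Agent.Ega2.QuasiAffine

/-!
# The torsor attached to a cocycle, quasi-affine case

`g : B ⊗ B ⟶ G` in `Over S` with `g(b₀,b₁) * g(b₁,b₂) = g(b₀,b₂)`, `B → S` flat, surjective, quasi-compact, locally of
finite presentation, `G → S` quasi-affine: there are `P : Over S`, a pseudo-torsor structure on `P`
and `β : B ⟶ P` with `g(b₀,b₁) • β(b₁) = β(b₀)`.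
-/

set_option autoImplicit false
set_option backward.isDefEq.respectTransparency false
set_option backward.isDefEq.respectTransparency.types false
universe u

open CategoryTheory CategoryTheory.Limits MonoidalCategory CartesianMonoidalCategory MonObj GrpObj AlgebraicGeometry
  Opposite
open Groth.Agent.Books.BorelOrb K594.Cover K554.FibAct
open Groth.Agent.Desc.SecFunctor (restr)
open Groth.Agent.Desc.SecPresheaf (IsPSheaf IsDesc projT)

namespace K597.TwForm

variable {S : Scheme.{u}}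

section cov

/-- morphisms are determined after a covering. -/
theorem cov_ext {T T' X : Over S} {g : T' ⟶ T} (h : Cov g) {a b : T ⟶ X} (e : g ≫ a = g ≫ b) : a = b := by
  have := h.ext ((AlgSp.yon S).obj X) (a := ULift.up a) (b := ULift.up b) (congrArg ULift.up e)
  exact congrArg ULift.down this

/-- morphisms descend along a covering. -/
theorem cov_glue {T T' X : Over S} {g : T' ⟶ T} (h : Cov g) (x : T' ⟶ X)
    (hx : ∀ (Z : Over S) (a b : Z ⟶ T'), a ≫ g = b ≫ g → a ≫ x = b ≫ x) : ∃ t : T ⟶ X, g ≫ t = x := by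
  obtain ⟨t, ht⟩ := h.glue ((AlgSp.yon S).obj X) (ULift.up x)
    (fun Z a b hab => congrArg ULift.up (hx Z a b hab))
  exact ⟨t.down, congrArg ULift.down ht⟩

lemma lift_fst_snd_eq {X Y W : Over S} (w : W ⟶ X ⊗ Y) : lift (w ≫ fst X Y) (w ≫ snd X Y) = w := by
  apply CartesianMonoidalCategory.hom_ext <;> simp

theorem isPullback_whiskerRight {T T' : Over S} (g : T' ⟶ T) (B : Over S) :
    IsPullback (fst T' B) (g ▷ B) g (fst T B) := by
  refine ⟨⟨by simp⟩, ⟨PullbackCone.IsLimit.mk _ (fun s => lift s.fst (s.snd ≫ snd _ _)) (fun s => by simp)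
    (fun s => ?_) (fun s m h1 h2 => ?_)⟩⟩
  · apply CartesianMonoidalCategory.hom_ext
    · have := s.condition
      simp [this]
    · simp
  · apply CartesianMonoidalCategory.hom_ext
    · simpa using h1
    · rw [lift_snd, ← h2]; simp

/-- `g ▷ B` is a covering. -/
theorem cov_whiskerRight {T T' : Over S} {g : T' ⟶ T} (h : Cov g) (B : Over S) : Cov (g ▷ B) :=
  Cov.of_isPullback (isPullback_whiskerRight g B) h

/-- the projection `T ⊗ B ⟶ T` is a covering. -/
theorem cov_fst (T : Over S) {B : Over S} (h : Cov (toUnit B)) : Cov (fst T B) := by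
  refine Cov.of_isPullback (h' := snd _ _) (h := toUnit T) ⟨⟨toUnit_unique _ _⟩,
    ⟨PullbackCone.IsLimit.mk _ (fun s => lift s.snd s.fst) (fun s => by simp)
    (fun s => by simp) (fun s m h1 h2 => ?_)⟩⟩ h
  apply CartesianMonoidalCategory.hom_ext
  · simpa using h2
  · simpa using h1

end cov

section coc

variable {G B : Over S} [GrpObj G] (g : B ⊗ B ⟶ G)

/-- the cocycle on points -/
noncomputable def co {W : Over S} (b₀ b₁ : W ⟶ B) : W ⟶ G := lift b₀ b₁ ≫ g

omit [GrpObj G] in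
lemma comp_co {W W' : Over S} (w : W' ⟶ W) (b₀ b₁ : W ⟶ B) : w ≫ co g b₀ b₁ = co g (w ≫ b₀) (w ≫ b₁) := by
  rw [co, co, ← Category.assoc, comp_lift]

/-- the cocycle condition -/
def IsCoc : Prop := ∀ (W : Over S) (b₀ b₁ b₂ : W ⟶ B), co g b₀ b₁ * co g b₁ b₂ = co g b₀ b₂

variable {g}

lemma IsCoc.self (hg : IsCoc g) {W : Over S} (b : W ⟶ B) : co g b b = 1 := by
  have := hg W b b b
  exact mul_eq_left.1 this

lemma IsCoc.inv (hg : IsCoc g) {W : Over S} (b₀ b₁ : W ⟶ B) : (co g b₀ b₁)⁻¹ = co g b₁ b₀ := by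
  rw [inv_eq_iff_mul_eq_one, hg, hg.self]

variable (g)

/-- The condition on twisted sections. -/
def Tw {Z : Over S} (s : Z ⊗ B ⟶ G) : Prop :=
  ∀ (W : Over S) (z : W ⟶ Z) (b₀ b₁ : W ⟶ B), lift z b₁ ≫ s = (lift z b₀ ≫ s) * co g b₀ b₁

/-- the presheaf of twisted sections -/
@[simps obj map]
noncomputable def Fg : (Over S)ᵒᵖ ⥤ Type u where
  obj Z := {s : Z.unop ⊗ B ⟶ G // Tw g s}
  map {Z Z'} f := TypeCat.ofHom fun s => ⟨f.unop ▷ B ≫ s.1, fun W z b₀ b₁ => by
    have h := s.2 W (z ≫ f.unop) b₀ b₁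
    rw [lift_whiskerRight_assoc, lift_whiskerRight_assoc]
    exact h⟩
  map_id Z := by
    apply ConcreteCategory.hom_ext
    intro s
    apply Subtype.ext
    change 𝟙 Z.unop ▷ B ≫ s.1 = s.1
    rw [id_whiskerRight, Category.id_comp]
  map_comp {Z Z' Z''} f f' := by
    apply ConcreteCategory.hom_ext
    intro s
    apply Subtype.ext
    change (f'.unop ≫ f.unop) ▷ B ≫ s.1 = f'.unop ▷ B ≫ f.unop ▷ B ≫ s.1
    rw [comp_whiskerRight, Category.assoc]

lemma Fg_map_val {Z Z' : Over S} (f : Z' ⟶ Z) (s : (Fg g).obj (op Z)) :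
    ((Fg g).map f.op s).1 = f ▷ B ≫ s.1 := rfl

/-- `Fg` satisfies descent along coverings. -/
theorem isDesc_Fg {T T' : Over S} {c : T' ⟶ T} (h : Cov c) : IsDesc (Fg g) c where
  inj a b hab := by
    apply Subtype.ext
    apply cov_ext (cov_whiskerRight h B)
    exact congrArg Subtype.val hab
  glue a ha := by
    obtain ⟨t, ht⟩ := cov_glue (cov_whiskerRight h B) a.1 (fun Z y₀ y₁ hy => by
      have e1 : (y₀ ≫ fst _ _) ≫ c = (y₁ ≫ fst _ _) ≫ c := by
        have := congrArg (· ≫ fst T B) hy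
        simpa using this
      have e2 : y₀ ≫ snd _ _ = y₁ ≫ snd _ _ := by
        have := congrArg (· ≫ snd T B) hy
        simpa using this
      have e3 := congrArg Subtype.val (ha Z (y₀ ≫ fst _ _) (y₁ ≫ fst _ _) e1)
      rw [Fg_map_val, Fg_map_val] at e3
      have e4 := congrArg (lift (𝟙 Z) (y₀ ≫ snd _ _) ≫ ·) e3
      simp only [lift_whiskerRight_assoc, Category.id_comp] at e4
      rw [lift_fst_snd_eq, e2, lift_fst_snd_eq] at e4
      exact e4)
    refine ⟨⟨t, fun W z b₀ b₁ => ?_⟩, Subtype.ext ht⟩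
    obtain ⟨W', w, z', sq, hw⟩ := h.exists_baseChange z
    apply cov_ext hw
    rw [comp_mul, comp_co, comp_lift_assoc, comp_lift_assoc, ← sq.w]
    have e := a.2 W' z' (w ≫ b₀) (w ≫ b₁)
    rw [← ht, lift_whiskerRight_assoc, lift_whiskerRight_assoc] at e
    exact e

theorem isPSheaf_Fg (hB : Cov (toUnit B)) : IsPSheaf B.hom (Fg g) := by
  intro T
  apply isDesc_Fg
  have h1 := hB.flat
  have h2 := hB.lfp
  have h3 := hB.surj
  have e : (toUnit B).left = B.hom := by simp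
  rw [e] at h1 h2 h3
  exact ⟨inferInstanceAs (Flat (pullback.snd B.hom T.hom)),
    inferInstanceAs (LocallyOfFinitePresentation (pullback.snd B.hom T.hom)),
    inferInstanceAs (Surjective (pullback.snd B.hom T.hom))⟩

variable {g}

/-- twisted sections over a scheme over `B` -/
noncomputable def fgEquiv (hg : IsCoc g) {Z : Over S} (c : Z ⟶ B) : (Fg g).obj (op Z) ≃ (Z ⟶ G) where
  toFun s := lift (𝟙 Z) c ≫ s.1
  invFun h := ⟨(fst _ _ ≫ h) * co g (fst _ _ ≫ c) (snd _ _), fun W z b₀ b₁ => by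
    rw [comp_mul, comp_mul, comp_co, comp_co, lift_fst_assoc, lift_fst_assoc, lift_snd, lift_fst_assoc, lift_fst_assoc,
      lift_snd, _root_.mul_assoc, hg]⟩
  left_inv s := by
    apply Subtype.ext
    change (fst _ _ ≫ lift (𝟙 Z) c ≫ s.1) * co g (fst _ _ ≫ c) (snd _ _) = s.1
    have h := s.2 (Z ⊗ B) (fst _ _) (fst _ _ ≫ c) (snd _ _)
    rw [lift_fst_snd, Category.id_comp] at h
    rw [comp_lift_assoc, Category.comp_id]
    exact h.symm
  right_inv h := by
    change lift (𝟙 Z) c ≫ ((fst _ _ ≫ h) * co g (fst _ _ ≫ c) (snd _ _)) = h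
    rw [comp_mul, comp_co, lift_fst_assoc, lift_fst_assoc, lift_snd, Category.id_comp, Category.id_comp, hg.self,
      _root_.mul_one]

lemma fgEquiv_nat (hg : IsCoc g) {Z Z' : Over S} (f : Z' ⟶ Z) (c : Z ⟶ B) (s : (Fg g).obj (op Z)) :
    fgEquiv hg (f ≫ c) ((Fg g).map f.op s) = f ≫ fgEquiv hg c s := by
  change lift (𝟙 Z') (f ≫ c) ≫ f ▷ B ≫ s.1 = f ≫ lift (𝟙 Z) c ≫ s.1
  rw [lift_whiskerRight_assoc, comp_lift_assoc, Category.id_comp, Category.comp_id]

/-- the restriction of `Fg` to `B` is represented by the base change of `G`. -/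
noncomputable def repFg (hg : IsCoc g) : (restr B.hom (Fg g)).RepresentableBy (Red.bc B.hom G) where
  homEquiv {Y} := (K554.BcPt.mulEquiv B.hom Y).symm.toEquiv.trans
    (fgEquiv hg (Z := (Over.map B.hom).obj Y) (Over.homMk Y.hom rfl)).symm
  homEquiv_comp {Y Y'} f h := by
    change (fgEquiv hg _).symm (K554.BcPt.un B.hom (f ≫ h)) = (Fg g).map _ ((fgEquiv hg _).symm (K554.BcPt.un B.hom h))
    rw [Equiv.symm_apply_eq]
    have e : (Over.homMk Y.hom rfl : (Over.map B.hom).obj Y ⟶ B) =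
      (Over.map B.hom).map f ≫ (Over.homMk Y'.hom rfl : (Over.map B.hom).obj Y' ⟶ B) := by
      ext1; exact (Over.w f).symm
    have h1 := fgEquiv_nat hg ((Over.map B.hom).map f) (Over.homMk Y'.hom rfl : (Over.map B.hom).obj Y' ⟶ B)
      ((fgEquiv hg (Over.homMk Y'.hom rfl)).symm (K554.BcPt.un B.hom h))
    rw [Equiv.apply_symm_apply, ← e, ← K554.BcPt.un_comp] at h1
    exact h1.symm

end coc

section rep

variable {G B P : Over S} [GrpObj G] {g : B ⊗ B ⟶ G} (r : (Fg g).RepresentableBy P)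

/-- the coordinate of a point of `P` at a point of `B`. -/
noncomputable def crd {W : Over S} (x : W ⟶ P) (b : W ⟶ B) : W ⟶ G := lift (𝟙 W) b ≫ (r.homEquiv x).1

lemma crd_eq {W W' : Over S} (w : W' ⟶ W) (x : W ⟶ P) (b : W' ⟶ B) :
    crd r (w ≫ x) b = lift w b ≫ (r.homEquiv x).1 := by
  rw [crd, r.homEquiv_comp]
  change lift (𝟙 W') b ≫ w ▷ B ≫ (r.homEquiv x).1 = _
  rw [lift_whiskerRight_assoc, Category.id_comp]

lemma comp_crd {W W' : Over S} (w : W' ⟶ W) (x : W ⟶ P) (b : W ⟶ B) :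
    w ≫ crd r x b = crd r (w ≫ x) (w ≫ b) := by
  rw [crd_eq, crd, comp_lift_assoc, Category.comp_id]

lemma crd_mul_co {W : Over S} (x : W ⟶ P) (b₀ b₁ : W ⟶ B) : crd r x b₀ * co g b₀ b₁ = crd r x b₁ :=
  ((r.homEquiv x).2 W (𝟙 W) b₀ b₁).symm

lemma crd_ext {W : Over S} {x y : W ⟶ P} (h : crd r (fst W B ≫ x) (snd W B) = crd r (fst W B ≫ y) (snd W B)) :
    x = y := by
  apply r.homEquiv.injective
  apply Subtype.ext
  rw [crd_eq, crd_eq, lift_fst_snd, Category.id_comp, Category.id_comp] at h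
  exact h

/-- coordinates determine a point. -/
lemma crd_ext' {W : Over S} {x y : W ⟶ P} (h : ∀ (W' : Over S) (w : W' ⟶ W) (b : W' ⟶ B), crd r (w ≫ x) b = crd r (w ≫ y) b) :
    x = y := crd_ext r (h _ _ _)

/-- points from coordinates. -/
lemma exists_crd {W : Over S} (s : W ⊗ B ⟶ G) (hs : Tw g s) :
    ∃ x : W ⟶ P, ∀ (W' : Over S) (w : W' ⟶ W) (b : W' ⟶ B), crd r (w ≫ x) b = lift w b ≫ s := by
  refine ⟨r.homEquiv.symm ⟨s, hs⟩, fun W' w b => ?_⟩
  rw [crd_eq, Equiv.apply_symm_apply]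

lemma exists_act {W : Over S} (h : W ⟶ G) (x : W ⟶ P) :
    ∃ y : W ⟶ P, ∀ (W' : Over S) (w : W' ⟶ W) (b : W' ⟶ B), crd r (w ≫ y) b = (w ≫ h) * crd r (w ≫ x) b := by
  obtain ⟨y, hy⟩ := exists_crd r ((fst W B ≫ h) * crd r (fst W B ≫ x) (snd W B)) (fun W' z b₀ b₁ => by
    rw [comp_mul, comp_mul, comp_crd, comp_crd, lift_fst_assoc, lift_fst_assoc, lift_fst_assoc, lift_fst_assoc, lift_snd,
      lift_snd, _root_.mul_assoc, crd_mul_co])
  refine ⟨y, fun W' w b => ?_⟩
  rw [hy, comp_mul, comp_crd, lift_fst_assoc, lift_fst_assoc, lift_snd]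

/-- the action on the twisted form -/
noncomputable def act : G ⊗ P ⟶ P := (exists_act r (fst G P) (snd G P)).choose

lemma crd_act {W W' : Over S} (w : W' ⟶ W) (h : W ⟶ G) (x : W ⟶ P) (b : W' ⟶ B) :
    crd r (w ≫ lift h x ≫ act r) b = (w ≫ h) * crd r (w ≫ x) b := by
  have := (exists_act r (fst G P) (snd G P)).choose_spec W' (w ≫ lift h x) b
  rw [Category.assoc, Category.assoc, Category.assoc, lift_fst, lift_snd] at this
  exact this

/-- the action on the twisted form -/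
noncomputable def twAct : AlgGrp.Action G P :=
  mkAction (act r)
    (fun T x => crd_ext' r fun W' w b => by rw [crd_act, comp_one, _root_.one_mul])
    (fun T h h' x => crd_ext' r fun W' w b => by
      rw [crd_act, crd_act, crd_act, comp_mul, _root_.mul_assoc])

lemma crd_sm {W W' : Over S} (w : W' ⟶ W) (h : W ⟶ G) (x : W ⟶ P) (b : W' ⟶ B) :
    crd r (w ≫ sm (twAct r) h x) b = (w ≫ h) * crd r (w ≫ x) b := crd_act r w h x b

lemma crd_sm' {W : Over S} (h : W ⟶ G) (x : W ⟶ P) (b : W ⟶ B) :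
    crd r (sm (twAct r) h x) b = h * crd r x b := by
  have := crd_sm r (𝟙 W) h x b
  rwa [Category.id_comp, Category.id_comp, Category.id_comp] at this

theorem isPseudoTorsorSch_twAct (hB : Cov (toUnit B)) : NonAbH1.IsPseudoTorsorSch (twAct r) := by
  refine K551.Tors.isPseudoTorsorSch_of_points _ fun Y x x' => ?_
  obtain ⟨h, hh⟩ := cov_glue (cov_fst Y hB) (crd r (fst Y B ≫ x) (snd Y B) * (crd r (fst Y B ≫ x') (snd Y B))⁻¹)
    (fun Z a b hab => by
      rw [comp_mul, comp_mul, comp_inv, comp_inv, comp_crd, comp_crd, comp_crd, comp_crd, ← Category.assoc,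
        ← Category.assoc, ← Category.assoc, ← Category.assoc, hab, ← crd_mul_co r _ (b ≫ snd Y B) (a ≫ snd Y B),
        ← crd_mul_co r _ (b ≫ snd Y B) (a ≫ snd Y B)]
      group)
  refine ⟨h, ?_, fun h' hh' => ?_⟩
  · apply crd_ext r
    rw [crd_sm, hh]
    group
  · apply cov_ext (cov_fst Y hB)
    rw [hh, ← hh', crd_sm]
    group

/-- the tautological point. -/
lemma exists_taut (hg : IsCoc g) :
    ∃ β : B ⟶ P, ∀ (W : Over S) (b₀ b₁ : W ⟶ B), crd r (b₀ ≫ β) b₁ = co g b₀ b₁ :=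
  exists_crd r g fun W z b₀ b₁ => (hg W z b₀ b₁).symm

theorem exists_taut_sm (hg : IsCoc g) :
    ∃ β : B ⟶ P, ∀ (W : Over S) (b₀ b₁ : W ⟶ B), sm (twAct r) (co g b₀ b₁) (b₁ ≫ β) = b₀ ≫ β := by
  obtain ⟨β, hβ⟩ := exists_taut r hg
  refine ⟨β, fun W b₀ b₁ => crd_ext' r fun W' w b => ?_⟩
  rw [crd_sm, ← Category.assoc, ← Category.assoc, hβ, hβ, comp_co, hg]

end rep

/-- **The torsor attached to a cocycle.** -/
theorem exists_torsor {G B : Over S} [GrpObj G] (g : B ⊗ B ⟶ G) (hg : IsCoc g) [Surjective B.hom] [Flat B.hom]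
    [LocallyOfFinitePresentation B.hom] [QuasiCompact B.hom] (hG : Mor2.IsQuasiAffine G.hom) :
    ∃ (P : Over S) (a : AlgGrp.Action G P) (β : B ⟶ P), NonAbH1.IsTorsorFor Scheme.fppfPrecoverage a ∧
      ∀ (W : Over S) (b₀ b₁ : W ⟶ B), sm a (co g b₀ b₁) (b₁ ≫ β) = b₀ ≫ β := by
  have hB : Cov (toUnit B) := by
    have e : (toUnit B).left = B.hom := by simp
    exact ⟨by rw [e]; infer_instance, by rw [e]; infer_instance, by rw [e]; infer_instance⟩
  obtain ⟨P, ⟨r⟩, -⟩ := Groth.Agent.Desc.LocalRep.exists_rep_of_fpqc B.hom (isPSheaf_Fg g hB) (Red.bc B.hom G)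
    (Groth.Agent.Ega2.QuasiAffine.qaff_baseChange G.hom hG B.hom) (repFg hg)
  obtain ⟨β, hβ⟩ := exists_taut_sm r hg
  exact ⟨P, twAct r, β, ⟨isPseudoTorsorSch_twAct r hB,
    K551.Tors.isLocallyTrivialFor_fppf B.hom ⟨β.left, Over.w β⟩⟩, hβ⟩

end K597.TwForm
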