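import Groth.Agent.NonAbH1.K597.GenTrA
import Groth.Agent.Books.BorelOrb
import Groth.Agent.NonAbH1.K597.TwForm

/-!
# Generic translations, part B: translation by a point of the group

`N` acts on `Y` over `S`, `γ : T ⟶ N`:
* `trl a γ : Y ⊗ T ⟶ Y`, `(y, t) ↦ γ(t) y`; affine when `T ⟶ S` is affine;
* `exists_generic`: for `N` smooth with geometrically irreducible fibres and `(y, n) ↦ (n y, y)` flat, every `y : Y` has a
  point `z` of `Y ⊗ N` above it with `n y` and `n⁻¹ y` maximal in their fibres and `n` generic in the fibre of `N`;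
* `exists_point` : the same after base change to a local ring of `N`.
-/

set_option autoImplicit false
set_option backward.isDefEq.respectTransparency false
set_option backward.isDefEq.respectTransparency.types false
universe u

open CategoryTheory CategoryTheory.Limits MonoidalCategory CartesianMonoidalCategory MonObj GrpObj AlgebraicGeometry
open Groth.Agent.Books.BorelOrb
open K622.FibPts (IsMaxFib toStalk)

namespace K597.GenTrB

open K597.GenTrA

variable {S : Scheme.{u}} {N Y : Over S} [GrpObj N] (a : AlgGrp.Action N Y)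

section trl

variable {T : Over S} (γ : T ⟶ N)

/-- translation by a point of the group -/
noncomputable def trl : Y ⊗ T ⟶ Y := sm a (snd Y T ≫ γ) (fst Y T)

lemma comp_trl {W : Over S} (w : W ⟶ Y ⊗ T) : w ≫ trl a γ = sm a (w ≫ snd _ _ ≫ γ) (w ≫ fst _ _) := comp_sm _ _ _ _

lemma trl_eq : trl a γ = (Y ◁ γ) ≫ trl a (𝟙 N) := by
  rw [comp_trl, Category.comp_id, whiskerLeft_snd, whiskerLeft_fst]
  rfl

lemma trl_inv : trl a γ⁻¹ = (Y ◁ γ) ≫ trl a (𝟙 N)⁻¹ := by
  rw [comp_trl, whiskerLeft_snd_assoc, whiskerLeft_fst, trl, comp_inv, comp_inv, comp_inv, Category.comp_id]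

/-- translation as an automorphism -/
noncomputable def autT : Y ⊗ T ≅ Y ⊗ T where
  hom := lift (trl a γ) (snd Y T)
  inv := lift (trl a γ⁻¹) (snd Y T)
  hom_inv_id := by
    apply CartesianMonoidalCategory.hom_ext
    · rw [Category.assoc, lift_fst, comp_trl, lift_snd_assoc, lift_fst, trl, ← mul_sm, ← comp_mul,
        inv_mul_cancel, comp_one, one_sm, Category.id_comp]
    · simp
  inv_hom_id := by
    apply CartesianMonoidalCategory.hom_ext
    · rw [Category.assoc, lift_fst, comp_trl, lift_snd_assoc, lift_fst, trl, ← mul_sm, ← comp_mul,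
        mul_inv_cancel, comp_one, one_sm, Category.id_comp]
    · simp

theorem isAffineHom_trl [IsAffineHom T.hom] : IsAffineHom (trl a γ).left := by
  have h : trl a γ = (autT a γ).hom ≫ fst Y T := (lift_fst _ _).symm
  rw [h, Over.comp_left]
  have : IsAffineHom (fst Y T).left := MorphismProperty.pullback_fst (P := @IsAffineHom) Y.hom T.hom inferInstance
  infer_instance

omit [GrpObj N] in
theorem isPullback_whiskerLeft : IsPullback (Y ◁ γ) (snd Y T) (snd Y N) γ := by
  refine ⟨⟨by simp⟩, ⟨PullbackCone.IsLimit.mk _ (fun s => lift (s.fst ≫ fst _ _) s.snd) (fun s => ?_)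
    (fun s => by simp) (fun s m h1 h2 => ?_)⟩⟩
  · apply CartesianMonoidalCategory.hom_ext
    · simp
    · have := s.condition
      simp [this]
  · apply CartesianMonoidalCategory.hom_ext
    · rw [lift_fst, ← h1]; simp
    · simpa using h2

end trl

section generic

/-- The pullback of the action-graph to a point of `Y`. -/
theorem isPullback_graph {P : Over S} (p : P ⟶ Y) :
    IsPullback (lift ((p ▷ N) ≫ lift (snd _ _) (fst _ _) ≫ a.act) (fst P N)) (p ▷ N) (Y ◁ p)
      (lift (trl a (𝟙 N)) (fst Y N)) := by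
  have e : (p ▷ N) ≫ lift (snd _ _) (fst _ _) ≫ a.act = p ▷ N ≫ trl a (𝟙 N) := by
    rw [trl, Category.comp_id]; rfl
  rw [e]
  refine ⟨⟨by apply CartesianMonoidalCategory.hom_ext <;> simp⟩,
    ⟨PullbackCone.IsLimit.mk _ (fun s => lift (s.fst ≫ snd _ _) (s.snd ≫ snd _ _)) (fun s => ?_) (fun s => ?_)
    (fun s m h1 h2 => ?_)⟩⟩
  · have h1 := congrArg (· ≫ fst _ _) s.condition
    have h2 := congrArg (· ≫ snd _ _) s.condition
    simp only [Category.assoc, whiskerLeft_fst, whiskerLeft_snd, lift_fst, lift_snd] at h1 h2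
    have h3 : lift (s.fst ≫ snd _ _) (s.snd ≫ snd _ _) ≫ p ▷ N = s.snd := by
      apply CartesianMonoidalCategory.hom_ext
      · simpa using h2
      · simp
    apply CartesianMonoidalCategory.hom_ext
    · rw [Category.assoc, lift_fst, ← Category.assoc, h3, h1]
    · simp
  · have h2 := congrArg (· ≫ snd _ _) s.condition
    simp only [Category.assoc, whiskerLeft_snd, lift_snd] at h2
    apply CartesianMonoidalCategory.hom_ext
    · simpa using h2
    · simp
  · apply CartesianMonoidalCategory.hom_ext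
    · rw [lift_fst, ← h1]; simp
    · rw [lift_snd, ← h2]; simp

theorem exists_generic [Smooth N.hom] [GeometricallyIrreducible N.hom]
    (hΨ : Flat (lift (trl a (𝟙 N)) (fst Y N)).left) (y : Y.left) :
    ∃ z : ↥(Y ⊗ N).left, (fst Y N).left z = y ∧ (∀ n : N.left, N.hom n = Y.hom y → (snd Y N).left z ⤳ n) ∧
      IsMaxFib Y.hom ((trl a (𝟙 N)).left z) ∧ IsMaxFib Y.hom ((trl a (𝟙 N)⁻¹).left z) := by
  let P : Over S := Over.mk (Y.left.fromSpecResidueField y ≫ Y.hom)
  let p : P ⟶ Y := Over.homMk (Y.left.fromSpecResidueField y) rfl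
  have hP : Subsingleton ↥P.left := inferInstanceAs (Subsingleton (PrimeSpectrum (Y.left.residueField y)))
  have hP' : IrreducibleSpace ↥P.left := inferInstanceAs (IrreducibleSpace (PrimeSpectrum (Y.left.residueField y)))
  have hirr : IrreducibleSpace ↥(P ⊗ N).left :=
    inferInstanceAs (IrreducibleSpace ↥(pullback P.hom N.hom))
  let z' : ↥(P ⊗ N).left := genericPoint _
  let z : ↥(Y ⊗ N).left := (p ▷ N).left z'
  have hy : (fst Y N).left z = y := by
    change ((p ▷ N).left ≫ (fst Y N).left) z' = y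
    rw [← Over.comp_left, whiskerRight_fst, Over.comp_left, Scheme.Hom.comp_apply]
    exact Y.left.fromSpecResidueField_apply y _
  have hspec : ∀ n : N.left, N.hom n = Y.hom y → (snd Y N).left z ⤳ n := by
    intro n hn
    obtain ⟨w, -, hw⟩ := Scheme.Pullback.exists_preimage_pullback (f := P.hom) (g := N.hom)
      (IsLocalRing.closedPoint (Y.left.residueField y)) n (by
        rw [hn]
        change Y.hom (Y.left.fromSpecResidueField y _) = _
        rw [Y.left.fromSpecResidueField_apply])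
    have h1 : z' ⤳ w := genericPoint_specializes w
    have h2 := h1.map (snd P N).left.continuous
    have e1 : (snd P N).left w = n := hw
    have e2 : (snd P N).left z' = (snd Y N).left z := by
      change _ = ((p ▷ N).left ≫ (snd Y N).left) z'
      rw [← Over.comp_left, whiskerRight_snd]
    rw [← e1, ← e2]
    exact h2
  have hmax : IsMaxFib Y.hom ((trl a (𝟙 N)).left z) := by
    let Φ : P ⊗ N ⟶ Y ⊗ P := lift ((p ▷ N) ≫ lift (snd _ _) (fst _ _) ≫ a.act) (fst P N)
    have hΦ : Flat Φ.left := MorphismProperty.of_isPullback (P := @Flat)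
      ((isPullback_graph a p).map (Over.forget S)).flip hΨ
    have h1 : GenTrA.IsMax (Φ.left z') := (isMax_genericPoint _).map Φ.left
    have h2 := isMaxFib_fst Y.hom (k := Y.left.residueField y) P.hom h1
    have e : (trl a (𝟙 N)).left z = pullback.fst Y.hom P.hom (Φ.left z') := by
      change ((p ▷ N).left ≫ (trl a (𝟙 N)).left) z' = (Φ.left ≫ (fst Y P).left) z'
      rw [← Over.comp_left, ← Over.comp_left, lift_fst, trl, Category.comp_id]
      rfl
    rw [e]
    exact h2
  refine ⟨z, hy, hspec, hmax, ?_⟩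
  have e : (trl a (𝟙 N)⁻¹).left z = (trl a (𝟙 N)).left z := by
    have h1 : (trl a (𝟙 N)⁻¹) = (Y ◁ (𝟙 N)⁻¹) ≫ trl a (𝟙 N) := trl_eq a _
    have h2 : (Y ◁ (𝟙 N)⁻¹).left z = z := by
      change ((p ▷ N).left ≫ (Y ◁ (𝟙 N)⁻¹).left) z' = _
      rw [← Over.comp_left, ← whisker_exchange, Over.comp_left, Scheme.Hom.comp_apply]
      congr 1
      have hi : IsIso (P ◁ (𝟙 N : N ⟶ N)⁻¹) := by
        have : (𝟙 N : N ⟶ N)⁻¹ ≫ (𝟙 N : N ⟶ N)⁻¹ = 𝟙 N := by rw [comp_inv, Category.comp_id, _root_.inv_inv]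
        have : IsIso ((𝟙 N : N ⟶ N)⁻¹) := ⟨_, this, this⟩
        infer_instance
      have hi' : IsIso (P ◁ (𝟙 N : N ⟶ N)⁻¹).left := inferInstanceAs (IsIso ((Over.forget S).map (P ◁ (𝟙 N : N ⟶ N)⁻¹)))
      have h3 := (isMax_genericPoint (P ⊗ N).left).map (P ◁ (𝟙 N : N ⟶ N)⁻¹).left
      exact (h3 z' (genericPoint_specializes _)).symm
    rw [h1, Over.comp_left, Scheme.Hom.comp_apply, h2]
  rw [e]
  exact hmax

/-- Points over a local ring of the group. -/
theorem exists_point [Smooth N.hom] [GeometricallyIrreducible N.hom]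
    (hΨ : Flat (lift (trl a (𝟙 N)) (fst Y N)).left) (y : Y.left) (ζ : N.left) (hζ : Y.hom y ⤳ N.hom ζ)
    {T : Over S} (γ : T ⟶ N) (hγ : ∀ n : N.left, n ⤳ ζ → n ∈ Set.range γ.left) :
    ∃ y' : ↥(Y ⊗ T).left, (fst Y T).left y' = y ∧
      IsMaxFib Y.hom ((trl a γ).left y') ∧ IsMaxFib Y.hom ((trl a γ⁻¹).left y') := by
  obtain ⟨z, hz, hs, h1, h2⟩ := exists_generic a hΨ y
  obtain ⟨n, hn, hn'⟩ := Flat.generalizingMap N.hom hζ
  obtain ⟨t, ht⟩ := hγ _ ((hs n hn').trans hn)
  obtain ⟨y', hy', -⟩ := Scheme.exists_preimage_of_isPullback ((isPullback_whiskerLeft (Y := Y) γ).map (Over.forget S))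
    z t ht.symm
  have hy'' : (Y ◁ γ).left y' = z := hy'
  refine ⟨y', ?_, ?_, ?_⟩
  · rw [← hz, ← hy'', ← Scheme.Hom.comp_apply, ← Over.comp_left, whiskerLeft_fst]
  · rw [trl_eq, Over.comp_left, Scheme.Hom.comp_apply, hy'']
    exact h1
  · rw [trl_inv, Over.comp_left, Scheme.Hom.comp_apply, hy'']
    exact h2

end generic

end K597.GenTrB
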