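import Groth.Agent.NonAbH1.K597.TwComp
import Groth.Agent.NonAbH1.K551.FlatGlueTors
import Groth.Agent.NonAbH1.K553.Bc

/-!
# Glueing of torsors along an exact square, given compatible sections over a common flat covering
-/

set_option autoImplicit false
set_option backward.isDefEq.respectTransparency false
set_option backward.isDefEq.respectTransparency.types false
universe u

open CategoryTheory CategoryTheory.Limits MonoidalCategory CartesianMonoidalCategory MonObj GrpObj AlgebraicGeometry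
  Opposite
open Groth.Agent.Books.BorelOrb K594.Cover K551.Tors K597.TwForm K597.TwComp K554.BcPt K551.FlatGlue
open K554.Fpqc (sm_restrict)

namespace K597.TwGlue

section gen

variable {S S' : Scheme.{u}} (j : S' ⟶ S) {G X : Over S} [GrpObj G] {a : AlgGrp.Action G X}

lemma sm_bc {Y : Over S'} (g : (Over.map j).obj Y ⟶ G) (x : (Over.map j).obj Y ⟶ X) :
    sm (a.bc j) (mk j g) (mk j x) = mk j (sm a g x) :=
  AlgGrp.Action.lift_homEquiv_bc_act j a g x

lemma sm_bc' {Y : Over S'} (g : Y ⟶ Red.bc j G) (x : Y ⟶ Red.bc j X) :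
    sm (a.bc j) g x = mk j (sm a (un j g) (un j x)) := by
  rw [← sm_bc, mk_un, mk_un]

lemma map_sm {Y : Over S} (g : Y ⟶ G) (x : Y ⟶ X) :
    (Over.pullback j).map (sm a g x) = sm (a.bc j) ((Over.pullback j).map g) ((Over.pullback j).map x) := by
  rw [sm_bc']
  apply un_injective j
  have h : ∀ {Z : Over S} (f : Y ⟶ Z), un j ((Over.pullback j).map f) = un j (𝟙 (Red.bc j Y)) ≫ f := by
    intro Z f
    rw [← un_comp_map, Category.id_comp]
  rw [un_mk, h, h, h, comp_sm]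

lemma map_dif (ha : NonAbH1.IsPseudoTorsorSch a) {Y : Over S} (x x' : Y ⟶ X) :
    (Over.pullback j).map (dif ha x x') =
      dif (NonAbH1.isPseudoTorsorSch_bc j ha) ((Over.pullback j).map x) ((Over.pullback j).map x') :=
  (dif_eq _ (by rw [← map_sm, sm_dif])).symm

lemma dif_restrict {H : Over S} [GrpObj H] (φ : H ⟶ G) [IsMonHom φ] [IsIso φ] (ha : NonAbH1.IsPseudoTorsorSch a)
    {Y : Over S} (x x' : Y ⟶ X) :
    dif (K553.Bc.isPseudoTorsorSch_restrict ha φ) x x' ≫ φ = dif ha x x' :=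
  (dif_eq _ (by rw [← sm_restrict φ, sm_dif])).symm

lemma dif_equivIso {X' : Over S} {a' : AlgGrp.Action G X'} (e : NonAbH1.EquivIso a a')
    (ha : NonAbH1.IsPseudoTorsorSch a) (ha' : NonAbH1.IsPseudoTorsorSch a') {Y : Over S} (x x' : Y ⟶ X) :
    dif ha' (x ≫ e.iso.hom) (x' ≫ e.iso.hom) = dif ha x x' :=
  dif_eq _ (by rw [← equivIso_sm, sm_dif])

lemma un_map {Y Z : Over S} (f : Y ⟶ Z) : un j ((Over.pullback j).map f) = un j (𝟙 (Red.bc j Y)) ≫ f := by
  rw [← un_comp_map, Category.id_comp]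

lemma map_mul' {Y : Over S} (g g' : Y ⟶ G) :
    (Over.pullback j).map (g * g') = (Over.pullback j).map g * (Over.pullback j).map g' := by
  apply un_injective j
  rw [un_mul, un_map, un_map, un_map, comp_mul]

/-- the property of the glued difference on points -/
lemma map_co {B : Over S} {G' X' : Over S'} [GrpObj G'] {a' : AlgGrp.Action (Red.bc j G) X'}
    (ha' : NonAbH1.IsPseudoTorsorSch a') (β : Red.bc j B ⟶ X') (g : B ⊗ B ⟶ G)
    (hg : (Over.pullback j).map g = dif ha' ((Over.pullback j).map (fst B B) ≫ β)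
      ((Over.pullback j).map (snd B B) ≫ β)) {Y : Over S} (b₀ b₁ : Y ⟶ B) :
    (Over.pullback j).map (co g b₀ b₁) = dif ha' ((Over.pullback j).map b₀ ≫ β) ((Over.pullback j).map b₁ ≫ β) := by
  rw [co, Functor.map_comp, hg, comp_dif, ← Category.assoc, ← Category.assoc, ← Functor.map_comp, ← Functor.map_comp,
    lift_fst, lift_snd]

lemma mk_co {B : Over S} {X' : Over S'} {a' : AlgGrp.Action (Red.bc j G) X'}
    (ha' : NonAbH1.IsPseudoTorsorSch a') (β : Red.bc j B ⟶ X') (g : B ⊗ B ⟶ G)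
    (hg : (Over.pullback j).map g = dif ha' ((Over.pullback j).map (fst B B) ≫ β)
      ((Over.pullback j).map (snd B B) ≫ β)) {Y : Over S'} (b₀ b₁ : (Over.map j).obj Y ⟶ B) :
    mk j (co g b₀ b₁) = dif ha' (mk j b₀ ≫ β) (mk j b₁ ≫ β) := by
  rw [co, ← mk_comp_map, hg, comp_dif, ← Category.assoc, ← Category.assoc, mk_comp_map, mk_comp_map, lift_fst, lift_snd]

/-- The base change of the twisted form is the given torsor. -/
theorem nonempty_equivIso_bc {B P : Over S} [Surjective B.hom] [Flat B.hom] [LocallyOfFinitePresentation B.hom]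
    {b : AlgGrp.Action G P} (hb : NonAbH1.IsTorsorFor Scheme.fppfPrecoverage b) (γ : B ⟶ P) (g : B ⊗ B ⟶ G)
    (hγ : ∀ (W : Over S) (b₀ b₁ : W ⟶ B), sm b (co g b₀ b₁) (b₁ ≫ γ) = b₀ ≫ γ)
    {X' : Over S'} {a' : AlgGrp.Action (Red.bc j G) X'}
    (ha' : NonAbH1.IsPseudoTorsorSch a') (β : Red.bc j B ⟶ X')
    (hg : (Over.pullback j).map g = dif ha' ((Over.pullback j).map (fst B B) ≫ β)
      ((Over.pullback j).map (snd B B) ≫ β)) : Nonempty (NonAbH1.EquivIso (b.bc j) a') := by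
  have h1 : Surjective (Red.bc j B).hom := inferInstanceAs (Surjective (pullback.snd B.hom j))
  have h2 : Flat (Red.bc j B).hom := inferInstanceAs (Flat (pullback.snd B.hom j))
  have h3 : LocallyOfFinitePresentation (Red.bc j B).hom :=
    inferInstanceAs (LocallyOfFinitePresentation (pullback.snd B.hom j))
  refine TwComp.nonempty_equivIso (NonAbH1.isTorsorFor_bc j _ hb) ha' (cov_toUnit (Red.bc j B))
    ((Over.pullback j).map γ) β fun W b₀ b₁ => ?_
  have e : dif (NonAbH1.isTorsorFor_bc j _ hb).1 (b₀ ≫ (Over.pullback j).map γ) (b₁ ≫ (Over.pullback j).map γ) =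
      dif ha' (b₀ ≫ β) (b₁ ≫ β) := by
    rw [← mk_un j b₀, ← mk_un j b₁, mk_comp_map, mk_comp_map, ← mk_co j ha' β g hg]
    apply dif_eq
    rw [sm_bc, hγ]
  rw [e, sm_dif]

end gen

section glue

variable {A A₁ A₂ A₃ : Type u} [CommRing A] [CommRing A₁] [CommRing A₂] [CommRing A₃]
  [Algebra A A₁] [Algebra A A₂] [Algebra A A₃] {g₁ : A₁ →ₐ[A] A₃} {g₂ : A₂ →ₐ[A] A₃}
  {G B : Over (Spec (CommRingCat.of A))} [GrpObj G]
  {X₁ : Over (Spec (CommRingCat.of A₁))} {X₂ : Over (Spec (CommRingCat.of A₂))}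
  {a₁ : AlgGrp.Action (Red.bc (sp A A₁) G) X₁} {a₂ : AlgGrp.Action (Red.bc (sp A A₂) G) X₂}

/-- the differences of the sections glue to a cocycle. -/
theorem exists_coc (h : Exact₂ g₁ g₂)
    (hs : ∀ s : Spec (CommRingCat.of A), s ∈ Set.range (sp A A₁) ∨ s ∈ Set.range (sp A A₂))
    [G.left.IsQuasiAffine] [Flat B.hom]
    (ha₁ : NonAbH1.IsPseudoTorsorSch a₁) (ha₂ : NonAbH1.IsPseudoTorsorSch a₂)
    (hc : spHom g₁ ≫ sp A A₁ = spHom g₂ ≫ sp A A₂)
    (e : NonAbH1.EquivIso ((a₁.bc (spHom g₁)).restrict (ActBC.bcCompIso (spHom g₁) (sp A A₁) G hc).inv)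
      ((a₂.bc (spHom g₂)).restrict (ActBC.bcCompIso (spHom g₂) (sp A A₂) G rfl).inv))
    (β₁ : Red.bc (sp A A₁) B ⟶ X₁) (β₂ : Red.bc (sp A A₂) B ⟶ X₂)
    (hβ : (Over.pullback (spHom g₁)).map β₁ ≫ e.iso.hom = (ActBC.bcCompIso (spHom g₁) (sp A A₁) B hc).hom ≫
      (ActBC.bcCompIso (spHom g₂) (sp A A₂) B rfl).inv ≫ (Over.pullback (spHom g₂)).map β₂) :
    ∃ g : B ⊗ B ⟶ G,
      (Over.pullback (sp A A₁)).map g = dif ha₁ ((Over.pullback (sp A A₁)).map (fst B B) ≫ β₁)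
        ((Over.pullback (sp A A₁)).map (snd B B) ≫ β₁) ∧
      (Over.pullback (sp A A₂)).map g = dif ha₂ ((Over.pullback (sp A A₂)).map (fst B B) ≫ β₂)
        ((Over.pullback (sp A A₂)).map (snd B B) ≫ β₂) := by
  have hfl : Flat (B ⊗ B).hom := by
    have : (B ⊗ B).hom = Limits.pullback.fst B.hom B.hom ≫ B.hom := Over.tensorObj_hom _ _
    rw [this]
    infer_instance
  refine K551.FlatGlueTors.exists_hom h hs _ _ hc ?_
  have hp : ∀ (p : B ⊗ B ⟶ B),
      ((Over.pullback (spHom g₁)).map ((Over.pullback (sp A A₁)).map p ≫ β₁)) ≫ e.iso.hom =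
      (ActBC.bcCompIso (spHom g₁) (sp A A₁) (B ⊗ B) hc).hom ≫ (ActBC.bcCompIso (spHom g₂) (sp A A₂) (B ⊗ B) rfl).inv ≫
        (Over.pullback (spHom g₂)).map ((Over.pullback (sp A A₂)).map p ≫ β₂) := by
    intro p
    rw [Functor.map_comp, Category.assoc, hβ, ActBC.bcCompIso_hom_naturality_assoc, Functor.map_comp]
    congr 1
    rw [← Category.assoc, ← Category.assoc]
    congr 1
    rw [Iso.eq_inv_comp, ← Category.assoc, Iso.comp_inv_eq, ActBC.bcCompIso_hom_naturality]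
  have r1 := NonAbH1.isPseudoTorsorSch_bc (spHom g₁) ha₁
  have r2 := NonAbH1.isPseudoTorsorSch_bc (spHom g₂) ha₂
  have q1 := K553.Bc.isPseudoTorsorSch_restrict r1 (ActBC.bcCompIso (spHom g₁) (sp A A₁) G hc).inv
  have q2 := K553.Bc.isPseudoTorsorSch_restrict r2 (ActBC.bcCompIso (spHom g₂) (sp A A₂) G rfl).inv
  rw [map_dif, map_dif, ← dif_restrict (ActBC.bcCompIso (spHom g₁) (sp A A₁) G hc).inv r1,
    ← dif_restrict (ActBC.bcCompIso (spHom g₂) (sp A A₂) G rfl).inv r2, Category.assoc, Category.assoc,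
    Iso.inv_hom_id, Iso.inv_hom_id, Category.comp_id, Category.comp_id, ← dif_equivIso e q1 q2, hp, hp,
    ← comp_dif, ← comp_dif]

theorem isCoc (h : Exact₂ g₁ g₂) [G.left.IsQuasiAffine] [Flat B.hom]
    (ha₁ : NonAbH1.IsPseudoTorsorSch a₁) (ha₂ : NonAbH1.IsPseudoTorsorSch a₂)
    (β₁ : Red.bc (sp A A₁) B ⟶ X₁) (β₂ : Red.bc (sp A A₂) B ⟶ X₂) (g : B ⊗ B ⟶ G)
    (hg₁ : (Over.pullback (sp A A₁)).map g = dif ha₁ ((Over.pullback (sp A A₁)).map (fst B B) ≫ β₁)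
        ((Over.pullback (sp A A₁)).map (snd B B) ≫ β₁))
    (hg₂ : (Over.pullback (sp A A₂)).map g = dif ha₂ ((Over.pullback (sp A A₂)).map (fst B B) ≫ β₂)
        ((Over.pullback (sp A A₂)).map (snd B B) ≫ β₂)) : IsCoc g := by
  have hfl : Flat (B ⊗ (B ⊗ B)).hom := by
    have e : (B ⊗ (B ⊗ B)).hom = Limits.pullback.fst B.hom (B ⊗ B).hom ≫ B.hom := Over.tensorObj_hom _ _
    have e' : (B ⊗ B).hom = Limits.pullback.fst B.hom B.hom ≫ B.hom := Over.tensorObj_hom _ _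
    have : Flat (B ⊗ B).hom := by rw [e']; infer_instance
    rw [e]
    infer_instance
  have key : co g (fst B (B ⊗ B)) (snd B (B ⊗ B) ≫ fst B B) * co g (snd B (B ⊗ B) ≫ fst B B) (snd B (B ⊗ B) ≫ snd B B) =
      co g (fst B (B ⊗ B)) (snd B (B ⊗ B) ≫ snd B B) := by
    refine K551.FlatGlueTors.hom_ext h _ _ ?_ ?_
    · rw [map_mul', map_co (G' := Red.bc (sp A A₁) G) _ ha₁ β₁ g hg₁, map_co (G' := Red.bc (sp A A₁) G) _ ha₁ β₁ g hg₁,
        map_co (G' := Red.bc (sp A A₁) G) _ ha₁ β₁ g hg₁, dif_mul_dif]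
    · rw [map_mul', map_co (G' := Red.bc (sp A A₂) G) _ ha₂ β₂ g hg₂, map_co (G' := Red.bc (sp A A₂) G) _ ha₂ β₂ g hg₂,
        map_co (G' := Red.bc (sp A A₂) G) _ ha₂ β₂ g hg₂, dif_mul_dif]
  intro W b₀ b₁ b₂
  have := congrArg (lift b₀ (lift b₁ b₂) ≫ ·) key
  simp only [comp_mul, comp_co, lift_fst, lift_snd_assoc, lift_snd] at this
  exact this

/-- **Glueing of torsors along an exact square**, given compatible sections over a common covering. -/
theorem exists_torsor (h : Exact₂ g₁ g₂)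
    (hs : ∀ s : Spec (CommRingCat.of A), s ∈ Set.range (sp A A₁) ∨ s ∈ Set.range (sp A A₂))
    [G.left.IsQuasiAffine] [Surjective B.hom] [Flat B.hom] [LocallyOfFinitePresentation B.hom] [QuasiCompact B.hom]
    (ha₁ : NonAbH1.IsPseudoTorsorSch a₁) (ha₂ : NonAbH1.IsPseudoTorsorSch a₂)
    (hc : spHom g₁ ≫ sp A A₁ = spHom g₂ ≫ sp A A₂)
    (e : NonAbH1.EquivIso ((a₁.bc (spHom g₁)).restrict (ActBC.bcCompIso (spHom g₁) (sp A A₁) G hc).inv)
      ((a₂.bc (spHom g₂)).restrict (ActBC.bcCompIso (spHom g₂) (sp A A₂) G rfl).inv))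
    (β₁ : Red.bc (sp A A₁) B ⟶ X₁) (β₂ : Red.bc (sp A A₂) B ⟶ X₂)
    (hβ : (Over.pullback (spHom g₁)).map β₁ ≫ e.iso.hom = (ActBC.bcCompIso (spHom g₁) (sp A A₁) B hc).hom ≫
      (ActBC.bcCompIso (spHom g₂) (sp A A₂) B rfl).inv ≫ (Over.pullback (spHom g₂)).map β₂) :
    ∃ (P : Over (Spec (CommRingCat.of A))) (a : AlgGrp.Action G P), NonAbH1.IsTorsorFor Scheme.fppfPrecoverage a ∧
      Nonempty (NonAbH1.EquivIso (a.bc (sp A A₁)) a₁) ∧ Nonempty (NonAbH1.EquivIso (a.bc (sp A A₂)) a₂) := by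
  obtain ⟨g, hg₁, hg₂⟩ := exists_coc h hs ha₁ ha₂ hc e β₁ β₂ hβ
  have hg := isCoc h ha₁ ha₂ β₁ β₂ g hg₁ hg₂
  have hG : Mor2.IsQuasiAffine G.hom :=
    (HasAffineProperty.iff_of_isAffine (P := Groth.Agent.Ega2.QuasiAffine.QAff)).2 inferInstance
  obtain ⟨P, a, γ, ha, hγ⟩ := TwForm.exists_torsor g hg hG
  exact ⟨P, a, ha, nonempty_equivIso_bc _ ha γ g hγ ha₁ β₁ hg₁, nonempty_equivIso_bc _ ha γ g hγ ha₂ β₂ hg₂⟩

end glue

end K597.TwGlue
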