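import Groth.Agent.NonAbH1.K597.GenTrB
import Groth.Agent.NonAbH1.K597.TwGlue
import Groth.Agent.AlgSp.K489.Square

/-!
# Generic translations, part C: ampleness

`exists_isAmple` : `O` a semi-local Dedekind domain, `N` a smooth `O`-group scheme with geometrically integral fibres acting
on a smooth separated integral `O`-scheme `Y` of finite type such that `(y, n) ↦ (n y, y)` is flat: `Y` has an ample
invertible module.
-/

set_option autoImplicit false
set_option backward.isDefEq.respectTransparency false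
set_option backward.isDefEq.respectTransparency.types false
universe u

open CategoryTheory CategoryTheory.Limits MonoidalCategory CartesianMonoidalCategory MonObj GrpObj AlgebraicGeometry
open Groth.Agent.Books.BorelOrb K554.BcPt Groth.Agent.Grpsch.PicGrp
open K622.FibPts (IsMaxFib toStalk)
open K622.Trans (bc gen)

namespace K597.GenTrC

open K597.GenTrA K597.GenTrB

theorem exists_rho {O : Type u} [CommRing O] [IsDomain O] {P : Type u} [CommRing P] [IsDomain P] (φ : O →+* P)
    (hφ : Function.Injective φ) : ∃ ρ : FractionRing O →+* FractionRing P,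
      ρ.comp (algebraMap O (FractionRing O)) = (algebraMap P (FractionRing P)).comp φ := by
  have hle : nonZeroDivisors O ≤ (nonZeroDivisors P).comap φ :=
    nonZeroDivisors_le_comap_nonZeroDivisors_of_injective _ hφ
  exact ⟨IsLocalization.map (M := nonZeroDivisors O) (T := nonZeroDivisors P) (FractionRing P) φ hle,
    IsLocalization.map_comp hle⟩

section square

variable {O : Type u} [CommRing O] [IsDomain O] {P : Type u} [CommRing P] [IsDomain P] (φ : O →+* P)
  (hφ : Function.Injective φ)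

/-- the spectrum of `P` over the base -/
noncomputable abbrev TT : Over (Spec (CommRingCat.of O)) := Over.mk (Spec.map (CommRingCat.ofHom φ))

variable {N Y : Over (Spec (CommRingCat.of O))} [GrpObj N] (a : AlgGrp.Action N Y) (τ : TT φ ⟶ N)

theorem pull_rel {G V D X Z : Scheme.{u}} (e : G ⟶ V) (A B p : V ⟶ X) (r : X ⟶ Z) (A' B' p' : D ⟶ Z) (g : G ⟶ D)
    (hA : e ≫ A ≫ r = g ≫ A') (hB : e ≫ B ≫ r = g ≫ B') (hp : e ≫ p ≫ r = g ≫ p') (c : Pic Z) (n : ℕ)
    (h : (pull A (pull r c) * pull B (pull r c)) ^ n = pull p (pull r c) ^ (2 * n)) :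
    pull g ((pull A' c * pull B' c * (pull p' c ^ 2)⁻¹) ^ n) = 1 := by
  have h' := congrArg (pull e) h
  rw [map_pow, map_pow, map_mul, ← pull_comp, ← pull_comp, ← pull_comp, ← pull_comp, ← pull_comp, ← pull_comp,
    Category.assoc, Category.assoc, Category.assoc, hA, hB, hp] at h'
  rw [map_pow, map_mul, map_mul, map_inv, map_pow, ← pull_comp, ← pull_comp, ← pull_comp, mul_pow, h', inv_pow, ← pow_mul,
    mul_inv_cancel]

/-- translation, on the base change -/
noncomputable def tra (τ : TT φ ⟶ N) : bc Y.hom φ ⟶ Y.left := (trl a τ).left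

include hφ in
/-- The square relation on the generic fibre of the base change. -/
theorem square [Smooth N.hom] [GeometricallyIntegral N.hom] [Smooth Y.hom] [IsSeparated Y.hom] [QuasiCompact Y.hom]
    (c : Pic Y.left) : ∃ n : ℕ, 0 < n ∧ pull (gen Y.hom φ)
      ((pull (tra φ a τ) c * pull (tra φ a τ⁻¹) c * (pull (pullback.fst Y.hom _) c ^ 2)⁻¹) ^ n) = 1 := by
  let j : Spec (CommRingCat.of (FractionRing O)) ⟶ Spec (CommRingCat.of O) :=
    Spec.map (CommRingCat.ofHom (algebraMap O (FractionRing O)))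
  let i : Spec (CommRingCat.of (FractionRing P)) ⟶ Spec (CommRingCat.of P) :=
    Spec.map (CommRingCat.ofHom (algebraMap P (FractionRing P)))
  obtain ⟨ρ, hρ⟩ := exists_rho φ hφ
  let t : Spec (CommRingCat.of (FractionRing P)) ⟶ Spec (CommRingCat.of (FractionRing O)) :=
    Spec.map (CommRingCat.ofHom ρ)
  have ht : t ≫ j = i ≫ Spec.map (CommRingCat.ofHom φ) := by
    change Spec.map _ ≫ Spec.map _ = Spec.map _ ≫ Spec.map _
    rw [← Spec.map_comp, ← Spec.map_comp, ← CommRingCat.ofHom_comp, ← CommRingCat.ofHom_comp, hρ]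
  let τF : (Over.map j).obj (Over.mk t) ⟶ N := Over.homMk (i ≫ τ.left) (by
    rw [Category.assoc, Over.w τ]
    exact ht.symm)
  let g : Over.mk t ⟶ Red.bc j N := mk j τF
  have s1 : Smooth (Red.bc j N).hom := inferInstanceAs (Smooth (pullback.snd N.hom j))
  have s2 : GeometricallyIntegral (Red.bc j N).hom := inferInstanceAs (GeometricallyIntegral (pullback.snd N.hom j))
  have s3 : Smooth (Red.bc j Y).hom := inferInstanceAs (Smooth (pullback.snd Y.hom j))
  have s4 : QuasiCompact (Red.bc j Y).hom := inferInstanceAs (QuasiCompact (pullback.snd Y.hom j))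
  have s5 : QuasiSeparated (Red.bc j Y).hom := inferInstanceAs (QuasiSeparated (pullback.snd Y.hom j))
  obtain ⟨n, hn, h⟩ := K489.Square.square t (Red.bc j N) (Red.bc j Y) (a.bc j).act (by
    have := one_sm (a.bc j) (𝟙 (Red.bc j Y))
    rw [sm, Hom.one_def] at this
    exact this) g (pull (pullback.fst Y.hom j) c)
  refine ⟨n, hn, ?_⟩
  -- the comparison
  let G := pullback (pullback.snd Y.hom (Spec.map (CommRingCat.ofHom φ))) i
  let Z : Over (Spec (CommRingCat.of (FractionRing O))) := Over.mk ((pullback.snd _ _ : G ⟶ _) ≫ t)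
  let z1 : Z ⟶ Over.mk t := Over.homMk (pullback.snd _ _)
  have hZ : (gen Y.hom φ ≫ pullback.fst Y.hom _) ≫ Y.hom = ((Over.map j).obj Z).hom := by
    change _ = ((pullback.snd _ _ : G ⟶ _) ≫ t) ≫ j
    rw [Category.assoc, Category.assoc, ht, pullback.condition, ← Category.assoc, ← Category.assoc, pullback.condition]
  let w : (Over.map j).obj Z ⟶ Y ⊗ TT φ := Over.homMk (gen Y.hom φ) (by
    rw [← hZ, Category.assoc]
    rfl)
  let z2 : Z ⟶ Red.bc j Y := mk j (w ≫ fst _ _)
  let e := lift z1 z2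
  have hw1 : w ≫ snd _ _ ≫ τ = (Over.map j).map z1 ≫ un j g := by
    rw [un_mk]
    ext1
    change gen Y.hom φ ≫ pullback.snd Y.hom _ ≫ τ.left = (pullback.snd _ _ : G ⟶ _) ≫ i ≫ τ.left
    rw [← Category.assoc, ← Category.assoc]
    congr 1
    exact pullback.condition
  have key : ∀ (g' : Over.mk t ⟶ Red.bc j N) (τ' : TT φ ⟶ N), w ≫ snd _ _ ≫ τ' = (Over.map j).map z1 ≫ un j g' →
      e.left ≫ (lift (fst (Over.mk t) (Red.bc j Y) ≫ g') (snd (Over.mk t) (Red.bc j Y)) ≫ (a.bc j).act).left ≫
        pullback.fst Y.hom j = gen Y.hom φ ≫ tra φ a τ' := by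
    intro g' τ' hg
    have h1 : e ≫ lift (fst (Over.mk t) (Red.bc j Y) ≫ g') (snd (Over.mk t) (Red.bc j Y)) ≫ (a.bc j).act =
        mk j (w ≫ trl a τ') := by
      have h2 : e ≫ lift (fst (Over.mk t) (Red.bc j Y) ≫ g') (snd (Over.mk t) (Red.bc j Y)) ≫ (a.bc j).act =
          sm (a.bc j) (z1 ≫ g') z2 := by
        rw [comp_lift_assoc, lift_fst_assoc, lift_snd]; rfl
      rw [h2, K597.TwGlue.sm_bc', comp_trl, hg, un_mk, un_comp]
    rw [← Category.assoc, ← Over.comp_left, h1, mk_left_fst]
    rfl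
  have k1 := key g τ hw1
  have k2 := key g⁻¹ τ⁻¹ (by rw [comp_inv, comp_inv, hw1, un_inv, comp_inv])
  have k3 : e.left ≫ (snd (Over.mk t) (Red.bc j Y)).left ≫ pullback.fst Y.hom j =
      gen Y.hom φ ≫ pullback.fst Y.hom _ := by
    rw [← Category.assoc, ← Over.comp_left, lift_snd, mk_left_fst]
    rfl
  exact pull_rel e.left _ _ _ (pullback.fst Y.hom j) _ _ _ (gen Y.hom φ) k1 k2 k3 c n h

end square

end K597.GenTrC
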