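import Groth.Agent.NonAbH1.K597.GenTrC

/-!
# Generic translations, part D: ampleness

`exists_isAmple` : `O` a semi-local Dedekind domain, `N` a smooth `O`-group scheme with geometrically integral fibres acting
on a smooth separated integral `O`-scheme `Y` of finite type such that `(y, n) ↦ (n y, y)` is flat: `Y` has an ample
invertible module.
-/

set_option autoImplicit false
set_option backward.isDefEq.respectTransparency false
set_option backward.isDefEq.respectTransparency.types false
universe u

open CategoryTheory CategoryTheory.Limits MonoidalCategory CartesianMonoidalCategory MonObj GrpObj AlgebraicGeometry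
open Groth.Agent.Books.BorelOrb K554.BcPt Groth.Agent.Grpsch.PicGrp
open K622.FibPts (IsMaxFib toStalk map_toStalk apply_fromSpecStalk)
open K622.Trans (bc gen)

namespace K597.GenTrD

open K597.GenTrA K597.GenTrB K597.GenTrC

variable {O : Type u} [CommRing O]

section stalk

variable {N : Scheme.{u}} (f : N ⟶ Spec (CommRingCat.of O)) (ζ : N)

theorem flat_toStalk [Flat f] : (toStalk f ζ).Flat := by
  have h1 : Flat (Spec.map (CommRingCat.ofHom (toStalk f ζ))) := by
    rw [map_toStalk]
    have := Groth.Agent.S1471.flat_fromSpecStalk N ζ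
    infer_instance
  exact (HasRingHomProperty.Spec_iff (P := @Flat)).1 h1

theorem comap_toStalk : (IsLocalRing.maximalIdeal (N.presheaf.stalk ζ)).comap (toStalk f ζ) = (f ζ).asIdeal := by
  have h := apply_fromSpecStalk f ζ (IsLocalRing.closedPoint (N.presheaf.stalk ζ))
  rw [Scheme.fromSpecStalk_closedPoint] at h
  exact h.symm

/-- Base changes to local rings of a scheme with geometrically integral fibres. -/
theorem isIntegral_bc [IsDedekindDomain O] [Smooth f] [GeometricallyIntegral f] {C : Scheme.{u}}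
    (c : C ⟶ Spec (CommRingCat.of O)) [IsIntegral C] [LocallyOfFiniteType c] (x : C) (hx : c x ⤳ f ζ) :
    IsIntegral (pullback c (Spec.map (CommRingCat.ofHom (toStalk f ζ)))) := by
  rw [map_toStalk]
  have h1 : IsLocallyNoetherian C := LocallyOfFiniteType.isLocallyNoetherian c
  have h2 : IsIntegral (pullback c f) := inferInstance
  let e := pullbackLeftPullbackSndIso c f (N.fromSpecStalk ζ)
  have h3 : Nonempty ↥(pullback (pullback.snd c f) (N.fromSpecStalk ζ)) := by
    obtain ⟨n, hn, hn'⟩ := Flat.generalizingMap f hx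
    have h4 : n ∈ Set.range (N.fromSpecStalk ζ) := by
      rw [Scheme.range_fromSpecStalk]; exact hn
    obtain ⟨p, rfl⟩ := h4
    obtain ⟨w, -, hw⟩ := Scheme.Pullback.exists_preimage_pullback (f := c) (g := f) x _ hn'.symm
    obtain ⟨v, -, -⟩ := Scheme.Pullback.exists_preimage_pullback (f := pullback.snd c f) (g := N.fromSpecStalk ζ) w p hw
    exact ⟨v⟩
  have h5 := isIntegral_pullback_fromSpecStalk (pullback.snd c f) ζ
  have h6 : Nonempty ↥(pullback c (N.fromSpecStalk ζ ≫ f)) := h3.map fun x => e.hom x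
  exact isIntegral_of_isOpenImmersion e.inv

end stalk

section fib

variable {N : Scheme.{u}} (f : N ⟶ Spec (CommRingCat.of O)) [GeometricallyIntegral f]

/-- the generic point of a fibre -/
noncomputable def gp (s : Spec (CommRingCat.of O)) : N := f.fiberι s (genericPoint (f.fiber s))

theorem isMaxFib_gp (s : Spec (CommRingCat.of O)) : IsMaxFib f (gp f s) :=
  isMaxFib_of_fiber f s (isMax_genericPoint _)

theorem map_gp (s : Spec (CommRingCat.of O)) : f (gp f s) = s := by
  have : gp f s ∈ Set.range (f.fiberι s) := ⟨_, rfl⟩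
  rw [f.range_fiberι] at this
  exact this

end fib

/-- **Ampleness for smooth schemes with a free action of a smooth connected group.** -/
theorem exists_isAmple [IsDedekindDomain O] [Finite (MaximalSpectrum O)] (hO : ¬ IsField O)
    {N Y : Over (Spec (CommRingCat.of O))} [GrpObj N] (a : AlgGrp.Action N Y) [Smooth N.hom]
    [GeometricallyIntegral N.hom] [Smooth Y.hom] [IsSeparated Y.hom] [QuasiCompact Y.hom] [IsIntegral Y.left]
    (hΨ : Flat (lift (trl a (𝟙 N)) (fst Y N)).left) : ∃ L : Y.left.Modules, CohB1.IsAmple L := by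
  have hN : IsIntegral N.left := GeometricallyIntegral.isIntegral_of_isLocallyNoetherian N.hom
  let s : MaximalSpectrum O → Spec (CommRingCat.of O) := fun q => ⟨q.asIdeal, q.isMaximal.isPrime⟩
  let ζ : MaximalSpectrum O → N.left := fun q => gp N.hom (s q)
  have hζ : ∀ q, N.hom (ζ q) = s q := fun q => map_gp N.hom (s q)
  have hdvr : ∀ q, IsDiscreteValuationRing (N.left.presheaf.stalk (ζ q)) := fun q => by
    obtain ⟨ϖ, hϖ⟩ := K622.FibPts.exists_span q.asIdeal
    have hϖ0 : ϖ ≠ 0 := by
      rintro rfl
      exact Ring.ne_bot_of_isMaximal_of_not_isField q.isMaximal hO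
        (hϖ.trans (Ideal.span_singleton_eq_bot.mpr rfl))
    exact isDVR N.hom (isMaxFib_gp N.hom (s q)) hϖ0 (by rw [hζ]; exact hϖ)
  have hfl : ∀ q, (toStalk N.hom (ζ q)).Flat := fun q => flat_toStalk N.hom (ζ q)
  have hinj : ∀ q, Function.Injective (toStalk N.hom (ζ q)) := fun q => by
    rw [injective_iff_map_eq_zero]
    intro x hx
    by_contra hx0
    exact K622.Trans.ne_zero_of_flat (hfl q) hx0 hx
  let τ : ∀ q, TT (toStalk N.hom (ζ q)) ⟶ N := fun q =>
    Over.homMk (N.left.fromSpecStalk (ζ q)) (map_toStalk N.hom (ζ q)).symm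
  have haff : ∀ q, IsAffineHom (TT (toStalk N.hom (ζ q))).hom := fun q =>
    inferInstanceAs (IsAffineHom (Spec.map (CommRingCat.ofHom (toStalk N.hom (ζ q)))))
  have hηs : ∀ q, Y.hom (genericPoint Y.left) ⤳ N.hom (ζ q) := fun q => by
    rw [hζ]
    refine (PrimeSpectrum.le_iff_specializes _ _).1 ?_
    change (Y.hom (genericPoint Y.left)).asIdeal ≤ _
    rw [K622.FibPts.map_genericPoint Y.hom]
    exact bot_le
  refine K622.Trans.exists_isAmple Y.hom hO (fun y => isRegular Y.hom y) (fun q => N.left.presheaf.stalk (ζ q))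
    (fun q => toStalk N.hom (ζ q)) hfl (fun q => by rw [comap_toStalk, hζ]) (fun q => isIntegral_bc N.hom (ζ q) Y.hom _ (hηs q))
    (fun q C c _ _ hC => ?_) (fun q => tra _ a (τ q)) (fun q => tra _ a (τ q)⁻¹)
    (fun q => isAffineHom_trl a (τ q)) (fun q => isAffineHom_trl a (τ q)⁻¹) (fun q c => square _ (hinj q) a (τ q) c)
    (fun y => ?_)
  · obtain ⟨x⟩ : Nonempty C := inferInstance
    refine isIntegral_bc N.hom (ζ q) c x ?_
    rw [hζ]
    have : c x = s q := PrimeSpectrum.ext (hC x)
    rw [this]
  · obtain ⟨m, hm, hym⟩ := (Y.hom y).asIdeal.exists_le_maximal (Y.hom y).2.ne_top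
    let q : MaximalSpectrum O := ⟨m, hm⟩
    have h1 : Y.hom y ⤳ N.hom (ζ q) := by
      rw [hζ]
      exact (PrimeSpectrum.le_iff_specializes _ _).1 hym
    obtain ⟨y', h2, h3, h4⟩ := GenTrB.exists_point a hΨ y (ζ q) h1 (τ q) (fun n hn => by
      have : n ∈ Set.range (N.left.fromSpecStalk (ζ q)) := by
        rw [Scheme.range_fromSpecStalk]; exact hn
      exact this)
    exact ⟨q, y', h2, h3, h4⟩

end K597.GenTrD
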