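import Groth.Agent.NonAbH1.K597.GenTrD
import Groth.Agent.Sga3.H813.Neutral
import Groth.Agent.Divis.AmpleFin
import Groth.Agent.CurvesC.NormSections
import Groth.Agent.Flat2B.SmoothGeom
import Groth.Agent.CalgA.RegBasic

/-!
# Generic translations, part E: torsors under smooth groups over a semi-local Dedekind domain

`exists_affine` : `O` a semi-local Dedekind domain, `H` a smooth `O`-group scheme, `Y` a smooth separated `O`-scheme of finite
type which is a pseudo-torsor under `H`: every finite set of points of `Y` lies in an affine open.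
-/

set_option autoImplicit false
set_option backward.isDefEq.respectTransparency false
set_option backward.isDefEq.respectTransparency.types false
universe u

open CategoryTheory CategoryTheory.Limits MonoidalCategory CartesianMonoidalCategory MonObj GrpObj AlgebraicGeometry
open Groth.Agent.Books.BorelOrb K554.FibAct
open K554.Fpqc (sm_restrict)

namespace K597.GenTrE

open K597.GenTrA K597.GenTrB

variable {S : Scheme.{u}}

theorem isOpenImmersion_tensorHom {A B C D : Over S} (f : A ⟶ B) (g : C ⟶ D) [IsOpenImmersion f.left]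
    [IsOpenImmersion g.left] : IsOpenImmersion (f ⊗ₘ g).left := by
  rw [MonoidalCategory.tensorHom_def, Over.comp_left]
  have h1 : IsOpenImmersion (f ▷ C).left := MorphismProperty.of_isPullback (P := @IsOpenImmersion)
    ((K597.TwForm.isPullback_whiskerRight f C).map (Over.forget S)) ‹_›
  have h2 : IsOpenImmersion (B ◁ g).left := MorphismProperty.of_isPullback (P := @IsOpenImmersion)
    ((isPullback_whiskerLeft (Y := B) g).map (Over.forget S)).flip ‹_›
  infer_instance

section clopen

variable {N Y : Over S} [GrpObj N] (a : AlgGrp.Action N Y) (C : Y.left.Opens)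

/-- the open subscheme, over the base -/
noncomputable abbrev opC : Over S := Over.mk (C.ι ≫ Y.hom)

/-- the inclusion -/
noncomputable abbrev ιC : opC C ⟶ Y := Over.homMk C.ι rfl

instance : Mono (ιC C) := by
  have : Mono (ιC C).left := inferInstanceAs (Mono C.ι)
  exact Over.mono_of_mono_left _

variable [Smooth N.hom] [GeometricallyIrreducible N.hom] (hC : IsClosed (C : Set Y.left)) [IrreducibleSpace C.toScheme]

include hC in
theorem range_subset : Set.range ((N ◁ ιC C) ≫ a.act).left ⊆ Set.range C.ι := by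
  have h1 : IrreducibleSpace ↥(N ⊗ opC C).left := by
    have : IrreducibleSpace ↥(opC C).left := ‹_›
    exact inferInstanceAs (IrreducibleSpace ↥(pullback N.hom (opC C).hom))
  have h2 : IsClopen (((N ◁ ιC C) ≫ a.act).left ⁻¹' (C : Set Y.left)) :=
    ⟨hC.preimage ((N ◁ ιC C) ≫ a.act).left.continuous, C.isOpen.preimage ((N ◁ ιC C) ≫ a.act).left.continuous⟩
  obtain ⟨x⟩ : Nonempty C.toScheme := inferInstance
  have h3 : (((N ◁ ιC C) ≫ a.act).left ⁻¹' (C : Set Y.left)) = Set.univ := by
    refine h2.eq_univ ⟨(lift (1 : opC C ⟶ N) (𝟙 _)).left x, ?_⟩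
    have h4 : lift (1 : opC C ⟶ N) (𝟙 _) ≫ (N ◁ ιC C) ≫ a.act = ιC C := by
      rw [lift_whiskerLeft_assoc, Category.id_comp]
      exact one_sm a _
    have h5 := congrArg (fun f : opC C ⟶ Y => f.left x) h4
    change ((N ◁ ιC C) ≫ a.act).left ((lift (1 : opC C ⟶ N) (𝟙 _)).left x) ∈ C
    rw [← Scheme.Hom.comp_apply, ← Over.comp_left, h5]
    exact x.2
  rintro _ ⟨w, rfl⟩
  rw [Scheme.Opens.range_ι]
  have : w ∈ (((N ◁ ιC C) ≫ a.act).left ⁻¹' (C : Set Y.left)) := by rw [h3]; trivial
  exact this

/-- the restricted action morphism -/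
noncomputable def actC : N ⊗ opC C ⟶ opC C :=
  Over.homMk (IsOpenImmersion.lift C.ι ((N ◁ ιC C) ≫ a.act).left (range_subset a C hC)) (by
    change _ ≫ C.ι ≫ Y.hom = _
    rw [IsOpenImmersion.lift_fac_assoc, Over.w])

lemma actC_ι : actC a C hC ≫ ιC C = (N ◁ ιC C) ≫ a.act := by
  ext1
  exact IsOpenImmersion.lift_fac _ _ _

lemma lift_actC {W : Over S} (g : W ⟶ N) (x : W ⟶ opC C) :
    (lift g x ≫ actC a C hC) ≫ ιC C = sm a g (x ≫ ιC C) := by
  rw [Category.assoc, actC_ι, lift_whiskerLeft_assoc]
  rfl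

/-- the restricted action -/
noncomputable def resC : AlgGrp.Action N (opC C) :=
  mkAction (actC a C hC)
    (fun T x => by rw [← cancel_mono (ιC C), lift_actC, one_sm])
    (fun T h h' x => by
      rw [← cancel_mono (ιC C), lift_actC, lift_actC, lift_actC, mul_sm])

lemma sm_resC {W : Over S} (g : W ⟶ N) (x : W ⟶ opC C) :
    sm (resC a C hC) g x ≫ ιC C = sm a g (x ≫ ιC C) := lift_actC a C hC g x

end clopen

section graph

variable {H N Y : Over S} [GrpObj H] [GrpObj N] (b : AlgGrp.Action H Y) (hb : NonAbH1.IsPseudoTorsorSch b) (v : N ⟶ H)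
  [IsMonHom v] [IsOpenImmersion v.left] (C : Y.left.Opens) [Smooth N.hom] [GeometricallyIrreducible N.hom]
  (hC : IsClosed (C : Set Y.left)) [IrreducibleSpace C.toScheme]

include hb in
theorem isIso_graph : IsIso (lift (trl b (𝟙 H)) (fst Y H)) := by
  have h1 : IsIso (lift b.act (snd H Y)) := hb
  have h2 : lift (trl b (𝟙 H)) (fst Y H) = lift (snd Y H) (fst Y H) ≫ lift b.act (snd H Y) := by
    rw [comp_lift, lift_snd, trl, Category.comp_id]; rfl
  have h3 : IsIso (lift (snd Y H) (fst Y H)) :=
    ⟨lift (snd H Y) (fst H Y), by simp [comp_lift], by simp [comp_lift]⟩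
  rw [h2]
  infer_instance

include hb in
theorem flat_graph : Flat (lift (trl (resC (b.restrict v) C hC) (𝟙 N)) (fst (opC C) N)).left := by
  have h1 := isIso_graph b hb
  have h2 : lift (trl (resC (b.restrict v) C hC) (𝟙 N)) (fst (opC C) N) ≫ (ιC C ⊗ₘ ιC C) =
      (ιC C ⊗ₘ v) ≫ lift (trl b (𝟙 H)) (fst Y H) := by
    apply CartesianMonoidalCategory.hom_ext
    · rw [Category.assoc, Category.assoc, lift_fst, tensorHom_fst, lift_fst_assoc, trl, sm_resC, comp_trl,
        sm_restrict, tensorHom_fst, tensorHom_snd_assoc, Category.comp_id, Category.comp_id]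
    · rw [Category.assoc, Category.assoc, lift_snd, tensorHom_snd, lift_snd_assoc, tensorHom_fst]
  have h3 : IsOpenImmersion (ιC C).left := inferInstanceAs (IsOpenImmersion C.ι)
  have h4 : IsOpenImmersion (ιC C ⊗ₘ v).left := isOpenImmersion_tensorHom _ _
  have h5 : IsOpenImmersion (ιC C ⊗ₘ ιC C).left := isOpenImmersion_tensorHom _ _
  have h6 : IsIso (lift (trl b (𝟙 H)) (fst Y H)).left := inferInstanceAs (IsIso ((Over.forget S).map (lift (trl b (𝟙 H)) (fst Y H))))
  have h7 : IsOpenImmersion ((lift (trl (resC (b.restrict v) C hC) (𝟙 N)) (fst (opC C) N)).left ≫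
      (ιC C ⊗ₘ ιC C).left) := by
    rw [← Over.comp_left, h2, Over.comp_left]
    infer_instance
  have h8 : IsOpenImmersion (lift (trl (resC (b.restrict v) C hC) (𝟙 N)) (fst (opC C) N)).left :=
    IsOpenImmersion.of_comp _ (ιC C ⊗ₘ ιC C).left
  infer_instance

end graph

section main

variable {O : Type u} [CommRing O] [IsDedekindDomain O]

/-- Every finite set of points of one component lies in an affine open. -/
theorem exists_affine_comp [Finite (MaximalSpectrum O)] (hO : ¬ IsField O)
    {H Y : Over (Spec (CommRingCat.of O))} [GrpObj H] (b : AlgGrp.Action H Y) (hb : NonAbH1.IsPseudoTorsorSch b)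
    [Smooth H.hom] [Smooth Y.hom] [IsSeparated Y.hom] [QuasiCompact Y.hom] (C : Y.left.Opens)
    (hC : IsClosed (C : Set Y.left)) [IsIntegral C.toScheme] (s : Set C.toScheme) (hs : s.Finite) :
    ∃ U : C.toScheme.Opens, IsAffineOpen U ∧ s ⊆ U := by
  obtain ⟨N, _, v, _, _, -, _, _, _, _⟩ := Groth.Agent.Sga3.H813.Neutral.exists_neutral H
  have hgr : GeometricallyReduced N.hom := Groth.Agent.Flat2B.SmoothGeom.geometricallyReduced_of_smooth N.hom
  have hgi : GeometricallyIntegral N.hom := GeometricallyIntegral.of_geometricallyReduced_of_geometricallyIrreducible _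
  have hCcl : IsClosedImmersion C.ι := by
    refine .of_isPreimmersion _ ?_
    rw [Scheme.Opens.range_ι]
    exact hC
  have i1 : Smooth (opC C).hom := inferInstanceAs (Smooth (C.ι ≫ Y.hom))
  have i2 : IsSeparated (opC C).hom := inferInstanceAs (IsSeparated (C.ι ≫ Y.hom))
  have i3 : QuasiCompact (opC C).hom := inferInstanceAs (QuasiCompact (C.ι ≫ Y.hom))
  have i4 : IsIntegral (opC C).left := ‹_›
  obtain ⟨L, hL⟩ := GenTrD.exists_isAmple hO (resC (b.restrict v) C hC) (flat_graph b hb v C hC)
  obtain ⟨m, t, h1, -, h2⟩ := Groth.Agent.Divis.AmpleFin.exists_genLocus_of_finite hL s hs ⊤ (fun _ _ => trivial)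
  exact ⟨_, h2, h1⟩

/-- **Finite sets of points of torsors under smooth groups lie in affine opens.** -/
theorem exists_affine [Finite (MaximalSpectrum O)] (hO : ¬ IsField O)
    {H Y : Over (Spec (CommRingCat.of O))} [GrpObj H] (b : AlgGrp.Action H Y) (hb : NonAbH1.IsPseudoTorsorSch b)
    [Smooth H.hom] [Smooth Y.hom] [IsSeparated Y.hom] [QuasiCompact Y.hom] (s : Set Y.left) (hs : s.Finite) :
    ∃ U : Y.left.Opens, IsAffineOpen U ∧ s ⊆ U := by
  have h1 : IsLocallyNoetherian Y.left := LocallyOfFiniteType.isLocallyNoetherian Y.hom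
  have h2 : CompactSpace Y.left := QuasiCompact.compactSpace_of_compactSpace Y.hom
  have h3 : IsNoetherian Y.left := {}
  have hdom : ∀ y : Y.left, IsDomain (Y.left.presheaf.stalk y) := fun y => by
    have := isRegular Y.hom y
    exact Groth.Agent.CalgA.RegBasic.isDomain _
  have hop : ∀ Z ∈ irreducibleComponents Y.left, IsOpen Z := fun Z hZ =>
    Groth.Agent.CurvesC.NormSections.isOpen_of_mem_irreducibleComponents hdom hZ
  let I := ↥(irreducibleComponents Y.left)
  have hfin : Finite I := (TopologicalSpace.NoetherianSpace.finite_irreducibleComponents).to_subtype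
  let C : I → Y.left.Opens := fun Z => ⟨Z.1, hop Z.1 Z.2⟩
  have hcl : ∀ Z : I, IsClosed (C Z : Set Y.left) := fun Z => isClosed_of_mem_irreducibleComponents Z.1 Z.2
  have hred : IsReduced Y.left := isReduced_of_isReduced_stalk _
  have hint : ∀ Z : I, IsIntegral (C Z).toScheme := fun Z => by
    have h5 : IrreducibleSpace (C Z).toScheme := by
      have h6 : IsIrreducible (Z.1 : Set Y.left) := Z.2.1
      have := (Subtype.irreducibleSpace (s := (Z.1 : Set Y.left)) h6)
      exact this
    exact isIntegral_of_irreducibleSpace_of_isReduced _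
  have hsub : ∀ Z Z' : I, ∀ x, x ∈ Z.1 → x ∈ Z'.1 → Z'.1 ⊆ Z.1 := by
    intro Z Z' x hx hx'
    have h6 : (Z'.1 : Set Y.left) ⊆ closure (Z'.1 ∩ Z.1) :=
      subset_closure_inter_of_isPreirreducible_of_isOpen Z'.2.1.2 (hop Z.1 Z.2) ⟨x, hx', hx⟩
    exact h6.trans ((closure_mono Set.inter_subset_right).trans
      (isClosed_of_mem_irreducibleComponents Z.1 Z.2).closure_subset)
  have hdisj : ∀ Z Z' : I, Z ≠ Z' → Disjoint (C Z) (C Z') := by
    intro Z Z' hne
    rw [← TopologicalSpace.Opens.coe_disjoint, Set.disjoint_iff_forall_ne]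
    rintro x hx _ hx' rfl
    exact hne (Subtype.ext (Set.Subset.antisymm (hsub Z' Z x hx' hx) (hsub Z Z' x hx hx')))
  have hex : ∀ Z : I, ∃ U : (C Z).toScheme.Opens, IsAffineOpen U ∧ (C Z).ι ⁻¹' s ⊆ U := fun Z =>
    exists_affine_comp hO b hb (C Z) (hcl Z) _ (hs.preimage (C Z).ι.isOpenEmbedding.injective.injOn)
  choose U hU hUs using hex
  refine ⟨⨆ Z, (C Z).ι ''ᵁ U Z, IsAffineOpen.iSup_of_disjoint (fun Z => (hU Z).image_of_isOpenImmersion _) ?_, ?_⟩
  · intro Z Z' hne
    refine Disjoint.mono ?_ ?_ (hdisj Z Z' hne)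
    · exact ((C Z).ι).image_le_opensRange _ |>.trans (by simp)
    · exact ((C Z').ι).image_le_opensRange _ |>.trans (by simp)
  · intro x hx
    rw [TopologicalSpace.Opens.coe_iSup, Set.mem_iUnion]
    let Z : I := ⟨irreducibleComponent x, irreducibleComponent_mem_irreducibleComponents x⟩
    exact ⟨Z, ⟨x, mem_irreducibleComponent⟩, hUs Z hx, rfl⟩

end main

end K597.GenTrE
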