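import Groth.Agent.S2002
import Groth.Agent.S2004
import Groth.Agent.S2005
import Groth.Agent.S10723
import Groth.Agent.NonAbH1.K551.AdicSquare
import Mathlib.AlgebraicGeometry.Morphisms.FlatDescent
import Mathlib.AlgebraicGeometry.Morphisms.Etale

/-!
# Flatness and finite presentation along a glueing pair
-/

set_option autoImplicit false
set_option backward.isDefEq.respectTransparency false
set_option backward.isDefEq.respectTransparency.types false
universe u

open CategoryTheory CategoryTheory.Limits AlgebraicGeometry TensorProduct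

namespace K597.GlueFlat

open K551.AdicSquare K551.FlatGlue

variable {A A' : Type u} [CommRing A] [CommRing A'] [Algebra A A'] (t : A)

theorem isGlueingPair (hq : QuotBij (algebraMap A A') t) (ht : TorBij (algebraMap A A') t) :
    EtGlue.IsGlueingPair A A' t := by
  have h1 : EtGlue.QuotPowBijective A A' t := by
    intro n _
    have key : ∀ (I J : Ideal A), I = J →
        Function.Bijective (Ideal.quotientMap (Ideal.map (algebraMap A A') I) (algebraMap A A') Ideal.le_comap_map) →
        Function.Bijective (Ideal.quotientMap (Ideal.map (algebraMap A A') J) (algebraMap A A') Ideal.le_comap_map) := by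
      rintro I _ rfl h
      exact h
    exact key _ _ (Ideal.span_singleton_pow t n) (hq n)
  refine (Groth.Agent.S2004.result A A' t h1).2 ⟨fun x hx hx0 => ?_, fun x' hx' => ?_⟩
  · obtain ⟨n, hn⟩ := hx
    exact eq_zero_of_torsion ht x n hn hx0
  · obtain ⟨a, ⟨h2, h3⟩, -⟩ := ht x' hx'
    exact ⟨a, h2, h3⟩

variable {t}

theorem isGlueable_of_flat (hp : EtGlue.IsGlueingPair A A' t) (C : Type u) [CommRing C] [Algebra A C] [Module.Flat A C]  :
    EtGlue.IsGlueable A A' t C := by
  refine ((Groth.Agent.S2005.result A A' t hp.1 C).2 hp).2 fun c hc hc0 => ?_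
  have hex : Exact₂ (gAway (A' := A') t) (gLoc (A' := A') t) :=
    { inj := fun a h1 h2 => hp.2.1 (by
        change ((algebraMap A A' a, algebraMap A (Localization.Away t) a) : A' × Localization.Away t) =
          (algebraMap A A' 0, algebraMap A (Localization.Away t) 0)
        rw [h1, h2, map_zero, map_zero])
      ex := fun a₁ a₂ h => by
        obtain ⟨r, h1, h2⟩ := hp.2.2.1 a₂ a₁ h.symm
        exact ⟨r, h2, h1⟩ }
  refine (hex.tensor C).1 c ?_ ?_
  · obtain ⟨n, hn⟩ := hc
    have h1 : IsUnit (algebraMap A (Localization.Away t) (t ^ n)) := by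
      rw [map_pow]
      exact (IsLocalization.Away.algebraMap_isUnit t).pow n
    obtain ⟨v, hv⟩ := h1
    have h2 : c ⊗ₜ[A] (1 : Localization.Away t) = (t ^ n • c) ⊗ₜ[A] (↑v⁻¹ : Localization.Away t) := by
      rw [TensorProduct.smul_tmul]
      congr 1
      rw [Algebra.smul_def, ← hv, Units.mul_inv]
    rw [h2, hn, TensorProduct.zero_tmul]
  · have := congrArg (TensorProduct.comm A A' C) hc0
    rw [TensorProduct.comm_tmul, map_zero] at this
    exact this

theorem flat_of_pieces (hp : EtGlue.IsGlueingPair A A' t) (C : Type u) [CommRing C] [Algebra A C]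
    (h1 : (Localization.awayMap (algebraMap A C) t).Flat) (h2 : (algebraMap A' (A' ⊗[A] C)).Flat) :
    Module.Flat A C := by
  refine (Groth.Agent.S2002.result A A' t hp C).2 ⟨?_, ?_⟩
  · exact (RingHom.flat_algebraMap_iff).1 h2
  · let _ := (Localization.awayMap (algebraMap A C) t).toAlgebra
    have h1' : Module.Flat (Localization.Away t) (Localization.Away (algebraMap A C t)) := h1
    have : IsScalarTower A (Localization.Away t) (Localization.Away (algebraMap A C t)) :=
      IsScalarTower.of_algebraMap_eq fun a => by
        change _ = Localization.awayMap (algebraMap A C) t (algebraMap A _ a)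
        rw [Localization.awayMap, IsLocalization.Away.map, IsLocalization.map_eq]
        rfl
    have h3 : Module.Flat A (Localization.Away (algebraMap A C t)) :=
      (Module.flat_iff_of_isLocalization (Localization.Away t) (Submonoid.powers t) _).1 h1'
    have h4 : IsLocalization (Algebra.algebraMapSubmonoid C (Submonoid.powers t)) (Localization.Away (algebraMap A C t)) := by
      have : Algebra.algebraMapSubmonoid C (Submonoid.powers t) = Submonoid.powers (algebraMap A C t) :=
        Submonoid.map_powers _ _
      rw [this]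
      infer_instance
    have h5 : IsLocalizedModule (Submonoid.powers t)
        (IsScalarTower.toAlgHom A C (Localization.Away (algebraMap A C t))).toLinearMap :=
      (isLocalizedModule_iff_isLocalization).2 h4
    have h6 : Module.Flat A (LocalizedModule (Submonoid.powers t) C) :=
      Module.Flat.of_linearEquiv (IsLocalizedModule.iso (Submonoid.powers t)
        (IsScalarTower.toAlgHom A C (Localization.Away (algebraMap A C t))).toLinearMap)
    exact (Module.flat_iff_of_isLocalization (Localization.Away t) (Submonoid.powers t) _).2 h6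

theorem finitePresentation_of_pieces (hp : EtGlue.IsGlueingPair A A' t) (C : Type u) [CommRing C] [Algebra A C]
    (h1 : (Localization.awayMap (algebraMap A C) t).Flat) (h2 : (algebraMap A' (A' ⊗[A] C)).Flat)
    (h3 : (Localization.awayMap (algebraMap A C) t).FinitePresentation)
    (h4 : (algebraMap A' (A' ⊗[A] C)).FinitePresentation) : (algebraMap A C).FinitePresentation := by
  have := flat_of_pieces hp C h1 h2
  have e : ∀ (P : ∀ {R S : Type u} [CommRing R] [CommRing S], (R →+* S) → Prop), RingHom.RespectsIso P →
      P (algebraMap A' (A' ⊗[A] C)) →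
      P (Algebra.TensorProduct.map (AlgHom.id A A') (Algebra.ofId A C)).toRingHom := by
    intro P hP hP2
    have h5 := hP.2 (algebraMap A' (A' ⊗[A] C)) (Algebra.TensorProduct.rid A A' A').toRingEquiv hP2
    convert h5 using 1
    apply RingHom.ext
    intro x
    induction x with
    | zero => simp
    | add x y hx hy => rw [map_add, map_add, hx, hy]
    | tmul a' a =>
      change a' ⊗ₜ[A] (algebraMap A C a) = (a • a') ⊗ₜ[A] (1 : C)
      rw [TensorProduct.smul_tmul, Algebra.smul_def, mul_one]
  refine ((Groth.Agent.S10723.result A A' t hp A C (isGlueable_of_flat hp A) (isGlueable_of_flat hp C)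
    (Algebra.ofId A C)).2 ⟨⟨h1, h3⟩, ⟨?_, ?_⟩⟩).2
  · exact e _ RingHom.Flat.respectsIso h2
  · exact e _ RingHom.finitePresentation_respectsIso h4

lemma prop_comp (P : MorphismProperty Scheme.{u}) [P.IsStableUnderComposition] [P.RespectsIso]
    (hP : ∀ {X Y : Scheme.{u}} (f : X ⟶ Y), IsOpenImmersion f → P f) {V W S T : Scheme.{u}} (g : V ⟶ W) [IsOpenImmersion g]
    (w : W ⟶ S) (j : T ⟶ S) (h : P (pullback.snd w j)) : P (pullback.snd (g ≫ w) j) := by
  have e : pullback.snd (g ≫ w) j = pullback.map (g ≫ w) j w j g (𝟙 _) (𝟙 _) (by simp) (by simp) ≫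
      pullback.snd w j := by simp
  rw [e]
  exact P.comp_mem _ _ (hP _ inferInstance) h

lemma affine_case (hp : EtGlue.IsGlueingPair A A' t) {C : CommRingCat.{u}} (w : Spec C ⟶ Spec (CommRingCat.of A))
    (h1 : Flat (pullback.snd w (sp A (Localization.Away t))))
    (h2 : LocallyOfFinitePresentation (pullback.snd w (sp A (Localization.Away t))))
    (h3 : Flat (pullback.snd w (sp A A'))) (h4 : LocallyOfFinitePresentation (pullback.snd w (sp A A'))) :
    Flat w ∧ LocallyOfFinitePresentation w := by
  obtain ⟨φ, rfl⟩ := Spec.map_surjective w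
  let _ : Algebra A C := φ.hom.toAlgebra
  have sq1 : IsPullback (Spec.map (CommRingCat.ofHom (algebraMap C (Localization.Away (algebraMap A C t)))))
      (Spec.map (CommRingCat.ofHom (Localization.awayMap (algebraMap A C) t))) (Spec.map φ)
      (sp A (Localization.Away t)) := by
    have : IsLocalization ((Submonoid.powers t).map (algebraMap A C)) (Localization.Away (algebraMap A C t)) := by
      rw [Submonoid.map_powers]; infer_instance
    exact isPullback_SpecMap_of_isPushout _ _ _ _ (CommRingCat.isPushout_of_isLocalization (algebraMap A C)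
      (Localization.awayMap (algebraMap A C) t) (by
        rw [Localization.awayMap, IsLocalization.Away.map, IsLocalization.map_comp]) (Submonoid.powers t))
  have sq2 : IsPullback (Spec.map (CommRingCat.ofHom (Algebra.TensorProduct.includeRight (R := A) (A := A') (B := C)).toRingHom))
      (Spec.map (CommRingCat.ofHom (algebraMap A' (A' ⊗[A] C)))) (Spec.map φ) (sp A A') :=
    isPullback_SpecMap_of_isPushout _ _ _ _ (CommRingCat.isPushout_tensorProduct A A' C).flip
  have e1 : Spec.map (CommRingCat.ofHom (Localization.awayMap (algebraMap A C) t)) = sq1.isoPullback.hom ≫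
      pullback.snd _ _ := sq1.isoPullback_hom_snd.symm
  have e2 : Spec.map (CommRingCat.ofHom (algebraMap A' (A' ⊗[A] C))) = sq2.isoPullback.hom ≫ pullback.snd _ _ :=
    sq2.isoPullback_hom_snd.symm
  have k1 : (Localization.awayMap (algebraMap A C) t).Flat := by
    have : Flat (Spec.map (CommRingCat.ofHom (Localization.awayMap (algebraMap A C) t))) := by
      rw [e1]; infer_instance
    exact (HasRingHomProperty.Spec_iff (P := @Flat)).1 this
  have k2 : (Localization.awayMap (algebraMap A C) t).FinitePresentation := by
    have : LocallyOfFinitePresentation (Spec.map (CommRingCat.ofHom (Localization.awayMap (algebraMap A C) t))) := by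
      rw [e1]; infer_instance
    exact (HasRingHomProperty.Spec_iff (P := @LocallyOfFinitePresentation)).1 this
  have k3 : (algebraMap A' (A' ⊗[A] C)).Flat := by
    have : Flat (Spec.map (CommRingCat.ofHom (algebraMap A' (A' ⊗[A] C)))) := by
      rw [e2]; infer_instance
    exact (HasRingHomProperty.Spec_iff (P := @Flat)).1 this
  have k4 : (algebraMap A' (A' ⊗[A] C)).FinitePresentation := by
    have : LocallyOfFinitePresentation (Spec.map (CommRingCat.ofHom (algebraMap A' (A' ⊗[A] C)))) := by
      rw [e2]; infer_instance
    exact (HasRingHomProperty.Spec_iff (P := @LocallyOfFinitePresentation)).1 this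
  constructor
  · exact (HasRingHomProperty.Spec_iff (P := @Flat)).2 (RingHom.flat_algebraMap_iff.2 (flat_of_pieces hp C k1 k3))
  · exact (HasRingHomProperty.Spec_iff (P := @LocallyOfFinitePresentation)).2
      (finitePresentation_of_pieces hp C k1 k3 k2 k4)

/-- **Flatness and finite presentation along a glueing pair.** -/
theorem flat_lfp (hp : EtGlue.IsGlueingPair A A' t) {W : Scheme.{u}} (w : W ⟶ Spec (CommRingCat.of A))
    (h1 : Flat (pullback.snd w (sp A (Localization.Away t))))
    (h2 : LocallyOfFinitePresentation (pullback.snd w (sp A (Localization.Away t))))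
    (h3 : Flat (pullback.snd w (sp A A'))) (h4 : LocallyOfFinitePresentation (pullback.snd w (sp A A'))) :
    Flat w ∧ LocallyOfFinitePresentation w := by
  have key : ∀ i : W.affineOpenCover.I₀, Flat (W.affineOpenCover.f i ≫ w) ∧
      LocallyOfFinitePresentation (W.affineOpenCover.f i ≫ w) := fun i =>
    affine_case hp _ (prop_comp @Flat (fun _ _ => inferInstance) (W.affineOpenCover.f i) w _ h1)
      (prop_comp @LocallyOfFinitePresentation (fun _ _ => inferInstance) (W.affineOpenCover.f i) w _ h2)
      (prop_comp @Flat (fun _ _ => inferInstance) (W.affineOpenCover.f i) w _ h3)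
      (prop_comp @LocallyOfFinitePresentation (fun _ _ => inferInstance) (W.affineOpenCover.f i) w _ h4)
  constructor
  · exact (IsZariskiLocalAtSource.iff_of_openCover (P := @Flat) W.affineOpenCover.openCover).2 fun i => (key i).1
  · exact (IsZariskiLocalAtSource.iff_of_openCover (P := @LocallyOfFinitePresentation)
      W.affineOpenCover.openCover).2 fun i => (key i).2

/-- A flat surjective morphism locally of finite presentation to a quasi-compact scheme is dominated by one with
affine source. -/
theorem exists_affine {W S : Scheme.{u}} [CompactSpace S] (w : W ⟶ S) [Flat w] [LocallyOfFinitePresentation w]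
    [Surjective w] : ∃ (B : Scheme.{u}) (b : B ⟶ W), IsAffine B ∧ Etale b ∧ Surjective (b ≫ w) := by
  have h1 : ∀ s : S, ∃ i : W.affineOpenCover.I₀, s ∈ Set.range (W.affineOpenCover.f i ≫ w) := by
    intro s
    obtain ⟨x, rfl⟩ := w.surjective s
    obtain ⟨i, y, hy⟩ := W.affineOpenCover.openCover.exists_eq x
    exact ⟨i, y, by rw [Scheme.Hom.comp_apply]; exact congrArg w hy⟩
  have h2 : ∀ i : W.affineOpenCover.I₀, IsOpen (Set.range (W.affineOpenCover.f i ≫ w)) :=
    fun i => (W.affineOpenCover.f i ≫ w).isOpenMap.isOpen_range
  obtain ⟨F, hF⟩ := isCompact_univ.elim_finite_subcover (fun i : W.affineOpenCover.I₀ => Set.range (W.affineOpenCover.f i ≫ w))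
    h2 (fun s _ => Set.mem_iUnion.2 (h1 s))
  refine ⟨∐ fun i : F => Spec (W.affineOpenCover.X i.1), Sigma.desc fun i : F => W.affineOpenCover.f i.1,
    inferInstance, IsZariskiLocalAtSource.sigmaDesc (P := @Etale) fun i => inferInstance, ⟨fun s => ?_⟩⟩
  obtain ⟨i, hi⟩ := Set.mem_iUnion.1 (hF (Set.mem_univ s))
  obtain ⟨hi, x, hx⟩ := Set.mem_iUnion.1 hi
  refine ⟨Sigma.ι (fun i : F => Spec (W.affineOpenCover.X i.1)) ⟨i, hi⟩ x, ?_⟩
  rw [← Scheme.Hom.comp_apply, Sigma.ι_desc_assoc]
  exact hx

end K597.GlueFlat
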