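import Groth.Agent.NonAbH1.K597.GlueSec

/-!
# Glueing of fppf torsors along a glueing pair
-/

set_option autoImplicit false
set_option backward.isDefEq.respectTransparency false
set_option backward.isDefEq.respectTransparency.types false
universe u

open CategoryTheory CategoryTheory.Limits MonoidalCategory CartesianMonoidalCategory MonObj GrpObj AlgebraicGeometry
  Opposite AlgSp

namespace K597.GlueMain

open GlueSec

section compat

variable {S S₁ S₂ S₃ : Scheme.{u}} {j₁ : S₁ ⟶ S} {j₂ : S₂ ⟶ S} {k₁ : S₃ ⟶ S₁} {k₂ : S₃ ⟶ S₂} (hc : k₁ ≫ j₁ = k₂ ≫ j₂)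
  {X₁ : Over S₁} {X₂ : Over S₂} (e : Red.bc k₁ X₁ ≅ Red.bc k₂ X₂)

/-- the common base change -/
noncomputable abbrev V' (k₁ : S₃ ⟶ S₁) (k₂ : S₃ ⟶ S₂) (j₂ : S₂ ⟶ S) (X₁ : Over S₁) : Over S :=
  Over.mk (pullback.snd X₁.hom k₁ ≫ k₂ ≫ j₂)

noncomputable abbrev pV : V' k₁ k₂ j₂ X₁ ⟶ un' j₁ X₁ := Over.homMk (pullback.fst X₁.hom k₁) (by
  change pullback.fst X₁.hom k₁ ≫ X₁.hom ≫ j₁ = pullback.snd X₁.hom k₁ ≫ k₂ ≫ j₂
  rw [← hc, ← Category.assoc, pullback.condition, Category.assoc])

noncomputable abbrev pY : V' k₁ k₂ j₂ X₁ ⟶ un' j₂ X₂ := Over.homMk (e.hom.left ≫ pullback.fst X₂.hom k₂) (by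
  have h : e.hom.left ≫ pullback.snd X₂.hom k₂ = pullback.snd X₁.hom k₁ := Over.w e.hom
  change (e.hom.left ≫ pullback.fst X₂.hom k₂) ≫ X₂.hom ≫ j₂ = pullback.snd X₁.hom k₁ ≫ k₂ ≫ j₂
  rw [← h, Category.assoc, Category.assoc, pullback.condition_assoc])

theorem compat {F : Sp S} {π : F ⟶ (yon S).obj (Over.mk (𝟙 S))} {a : (yon S).obj (un' j₁ X₁) ⟶ F}
    {b : (yon S).obj (un' j₂ X₂) ⟶ F}
    (sqb : IsPullback b ((yon S).map (un'Str j₂ X₂)) π ((yon S).map (tS j₂)))
    (hab : (yon S).map (pV hc) ≫ a = (yon S).map (pY e) ≫ b) {W : Over S} (p : (yon S).obj W ⟶ F)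
    (β₁ : Red.bc j₁ W ⟶ X₁) (β₂ : Red.bc j₂ W ⟶ X₂)
    (h₁ : (yon S).map (mkS j₁ β₁) ≫ a = (yon S).map (bcFst j₁ W) ≫ p)
    (h₂ : (yon S).map (mkS j₂ β₂) ≫ b = (yon S).map (bcFst j₂ W) ≫ p) :
    (Over.pullback k₁).map β₁ ≫ e.hom = (ActBC.bcCompIso k₁ j₁ W hc).hom ≫ (ActBC.bcCompIso k₂ j₂ W rfl).inv ≫
      (Over.pullback k₂).map β₂ := by
  let can : Red.bc k₁ (Red.bc j₁ W) ⟶ Red.bc k₂ (Red.bc j₂ W) :=
    (ActBC.bcCompIso k₁ j₁ W hc).hom ≫ (ActBC.bcCompIso k₂ j₂ W rfl).inv
  have hcan : can ≫ (ActBC.bcCompIso k₂ j₂ W rfl).hom = (ActBC.bcCompIso k₁ j₁ W hc).hom := by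
    simp [can]
  have hcanf : can.left ≫ pullback.fst (Red.bc j₂ W).hom k₂ ≫ pullback.fst W.hom j₂ =
      pullback.fst (Red.bc j₁ W).hom k₁ ≫ pullback.fst W.hom j₁ := by
    have h := congrArg (fun z => z.left ≫ pullback.fst W.hom (k₂ ≫ j₂)) hcan
    simp only [Over.comp_left, Category.assoc] at h
    rw [ActBC.bcCompIso_hom_left_fst, ActBC.bcCompIso_hom_left_fst] at h
    exact h
  have hcans : can.left ≫ pullback.snd (Red.bc j₂ W).hom k₂ = pullback.snd (Red.bc j₁ W).hom k₁ := Over.w can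
  have hmap : ((Over.pullback k₁).map β₁).left ≫ pullback.snd X₁.hom k₁ = pullback.snd (Red.bc j₁ W).hom k₁ :=
    Over.w ((Over.pullback k₁).map β₁)
  let Q : Over S := Over.mk (pullback.snd (Red.bc j₁ W).hom k₁ ≫ k₂ ≫ j₂)
  let n₁ : Q ⟶ V' k₁ k₂ j₂ X₁ := Over.homMk ((Over.pullback k₁).map β₁).left (by
    change ((Over.pullback k₁).map β₁).left ≫ pullback.snd X₁.hom k₁ ≫ k₂ ≫ j₂ = _
    rw [← Category.assoc, hmap]; rfl)
  let n₂ : Q ⟶ bcS j₂ W := Over.homMk (can.left ≫ pullback.fst (Red.bc j₂ W).hom k₂) (by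
    change (can.left ≫ pullback.fst (Red.bc j₂ W).hom k₂) ≫ pullback.fst W.hom j₂ ≫ W.hom =
      pullback.snd (Red.bc j₁ W).hom k₁ ≫ k₂ ≫ j₂
    rw [← hcans, pullback.condition, Category.assoc, Category.assoc,
      ← pullback.condition_assoc (f := (Red.bc j₂ W).hom)]
    rfl)
  let n₃ : Q ⟶ bcS j₁ W := Over.homMk (pullback.fst (Red.bc j₁ W).hom k₁) (by
    change pullback.fst (Red.bc j₁ W).hom k₁ ≫ pullback.fst W.hom j₁ ≫ W.hom =
      pullback.snd (Red.bc j₁ W).hom k₁ ≫ k₂ ≫ j₂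
    rw [pullback.condition, ← hc, ← pullback.condition_assoc (f := (Red.bc j₁ W).hom)]
    rfl)
  have cA : n₁ ≫ pV hc = n₃ ≫ mkS j₁ β₁ := by
    ext1
    exact ActBC.pullback_map_left_fst k₁ β₁
  have cB : n₂ ≫ bcFst j₂ W = n₃ ≫ bcFst j₁ W := by
    ext1
    change (can.left ≫ pullback.fst (Red.bc j₂ W).hom k₂) ≫ pullback.fst W.hom j₂ =
      pullback.fst (Red.bc j₁ W).hom k₁ ≫ pullback.fst W.hom j₁
    rw [Category.assoc, hcanf]
  have cC : n₁ ≫ pY e = n₂ ≫ mkS j₂ β₂ := by
    apply (yon S).map_injective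
    apply sqb.hom_ext
    · rw [Functor.map_comp, Category.assoc, ← hab, ← Category.assoc, ← Functor.map_comp, cA, Functor.map_comp,
        Functor.map_comp, Category.assoc, Category.assoc, h₁, h₂, ← Category.assoc, ← Category.assoc,
        ← Functor.map_comp, ← Functor.map_comp, cB]
    · rw [← Functor.map_comp, ← Functor.map_comp]
      congr 1
      ext1
      have he : e.hom.left ≫ pullback.snd X₂.hom k₂ = pullback.snd X₁.hom k₁ := Over.w e.hom
      have hb : β₂.left ≫ X₂.hom = pullback.snd W.hom j₂ := Over.w β₂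
      change (((Over.pullback k₁).map β₁).left ≫ e.hom.left ≫ pullback.fst X₂.hom k₂) ≫ X₂.hom =
        ((can.left ≫ pullback.fst (Red.bc j₂ W).hom k₂) ≫ β₂.left) ≫ X₂.hom
      rw [Category.assoc, Category.assoc, pullback.condition, ← Category.assoc e.hom.left, he, ← Category.assoc,
        hmap, Category.assoc, hb, Category.assoc, ← hcans, Category.assoc,
        ← pullback.condition (f := (Red.bc j₂ W).hom)]
      rfl
  rw [← Category.assoc (ActBC.bcCompIso k₁ j₁ W hc).hom]
  change _ = can ≫ _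
  ext1
  apply pullback.hom_ext
  · have := congrArg (fun z => z.left) cC
    change ((Over.pullback k₁).map β₁).left ≫ e.hom.left ≫ pullback.fst X₂.hom k₂ =
      (can.left ≫ pullback.fst (Red.bc j₂ W).hom k₂) ≫ β₂.left at this
    rw [Over.comp_left, Over.comp_left, Category.assoc, Category.assoc, ActBC.pullback_map_left_fst, this,
      Category.assoc]
  · exact (Over.w ((Over.pullback k₁).map β₁ ≫ e.hom)).trans (Over.w (can ≫ (Over.pullback k₂).map β₂)).symm

end compat

/-- The statement of the glueing theorem for quasi-affine pieces (S10725). -/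
def QAffGlue : Prop :=
  ∀ (R : Type u) [CommRing R] (R' : Type u) [CommRing R'] [Algebra R R']
    (f : R) (_ : EtGlue.IsGlueingPair R R' f) {XU' V V' Y' : Over (Spec (CommRingCat.of R))}
    (tU : (Over.mk (Spec.map (CommRingCat.ofHom (algebraMap R (Localization.Away f)))) : Over (Spec (CommRingCat.of R))) ⟶ Over.mk (𝟙 _))
    (tX : (Over.mk (Spec.map (CommRingCat.ofHom (algebraMap R R'))) : Over (Spec (CommRingCat.of R))) ⟶ Over.mk (𝟙 _))
    (iU : XU' ⟶ (Over.mk (Spec.map (CommRingCat.ofHom (algebraMap R (Localization.Away f)))) : Over (Spec (CommRingCat.of R))))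
    (iX : XU' ⟶ (Over.mk (Spec.map (CommRingCat.ofHom (algebraMap R R'))) : Over (Spec (CommRingCat.of R))))
    (_ : IsPullback iU iX tU tX) (v : V ⟶ (Over.mk (Spec.map (CommRingCat.ofHom (algebraMap R (Localization.Away f)))) : Over (Spec (CommRingCat.of R))))
    (y' : Y' ⟶ (Over.mk (Spec.map (CommRingCat.ofHom (algebraMap R R'))) : Over (Spec (CommRingCat.of R)))) (q : V' ⟶ XU')
    (pV : V' ⟶ V) (pY : V' ⟶ Y') (_ : IsPullback pV q v iU) (_ : IsPullback pY q y' iX)
    [V.left.IsQuasiAffine] [V'.left.IsQuasiAffine] [Y'.left.IsQuasiAffine],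
    ∃ (Y : AlgSp.Space (Spec (CommRingCat.of R))) (πY : Y.obj ⟶ (AlgSp.yon (Spec (CommRingCat.of R))).obj (Over.mk (𝟙 _)))
      (a : (AlgSp.yon (Spec (CommRingCat.of R))).obj V ⟶ Y.obj) (b : (AlgSp.yon (Spec (CommRingCat.of R))).obj Y' ⟶ Y.obj),
      AlgSp.IsSeparatedSp Y.obj ∧ IsPullback a ((AlgSp.yon (Spec (CommRingCat.of R))).map v) πY ((AlgSp.yon (Spec (CommRingCat.of R))).map tU) ∧
        IsPullback b ((AlgSp.yon (Spec (CommRingCat.of R))).map y') πY ((AlgSp.yon (Spec (CommRingCat.of R))).map tX) ∧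
        (AlgSp.yon (Spec (CommRingCat.of R))).map pV ≫ a = (AlgSp.yon (Spec (CommRingCat.of R))).map pY ≫ b

section main

open K551.AdicSquare K551.FlatGlue

variable {A A' : Type u} [CommRing A] [CommRing A'] [Algebra A A'] {t : A}

theorem isPullback_square : IsPullback (spHom (gAway (A' := A') t)) (spHom (gLoc (A' := A') t))
    (sp A (Localization.Away t)) (sp A A') := by
  have : IsLocalization ((Submonoid.powers t).map (algebraMap A A')) (Localization.Away (algebraMap A A' t)) := by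
    rw [Submonoid.map_powers]; infer_instance
  exact (isPullback_SpecMap_of_isPushout _ _ _ _ (CommRingCat.isPushout_of_isLocalization (algebraMap A A')
      (Localization.awayMap (algebraMap A A') t) (by
        rw [Localization.awayMap, IsLocalization.Away.map, IsLocalization.map_comp]) (Submonoid.powers t))).flip

/-- Sections over a common flat covering. -/
theorem exists_sections (H : QAffGlue.{u}) (hq : QuotBij (algebraMap A A') t) (ht : TorBij (algebraMap A A') t)
    (hc : spHom (gAway (A' := A') t) ≫ sp A (Localization.Away t) = spHom (gLoc (A' := A') t) ≫ sp A A')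
    (X₁ : Over (Spec (CommRingCat.of (Localization.Away t)))) (X₂ : Over (Spec (CommRingCat.of A')))
    [X₁.left.IsQuasiAffine] [X₂.left.IsQuasiAffine] [Flat X₁.hom] [Flat X₂.hom] [LocallyOfFinitePresentation X₁.hom]
    [LocallyOfFinitePresentation X₂.hom] [Surjective X₁.hom] [Surjective X₂.hom]
    (e : Red.bc (spHom (gAway (A' := A') t)) X₁ ≅ Red.bc (spHom (gLoc (A' := A') t)) X₂) :
    ∃ (B : Over (Spec (CommRingCat.of A))) (β₁ : Red.bc (sp A (Localization.Away t)) B ⟶ X₁)
      (β₂ : Red.bc (sp A A') B ⟶ X₂), Surjective B.hom ∧ Flat B.hom ∧ LocallyOfFinitePresentation B.hom ∧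
        QuasiCompact B.hom ∧ (Over.pullback (spHom (gAway (A' := A') t))).map β₁ ≫ e.hom =
          (ActBC.bcCompIso (spHom (gAway (A' := A') t)) (sp A (Localization.Away t)) B hc).hom ≫
          (ActBC.bcCompIso (spHom (gLoc (A' := A') t)) (sp A A') B rfl).inv ≫
          (Over.pullback (spHom (gLoc (A' := A') t))).map β₂ := by
  have hp := GlueFlat.isGlueingPair t hq ht
  have hs := surj t hq
  have hV : (un' (sp A (Localization.Away t)) X₁).left.IsQuasiAffine := inferInstanceAs X₁.left.IsQuasiAffine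
  have hY : (un' (sp A A') X₂).left.IsQuasiAffine := inferInstanceAs X₂.left.IsQuasiAffine
  have hV' : (V' (spHom (gAway (A' := A') t)) (spHom (gLoc (A' := A') t)) (sp A A') X₁).left.IsQuasiAffine := by
    have h1 : Mor2.IsQuasiAffine X₁.hom :=
      (HasAffineProperty.iff_of_isAffine (P := Groth.Agent.Ega2.QuasiAffine.QAff)).2 inferInstance
    exact (HasAffineProperty.iff_of_isAffine (P := Groth.Agent.Ega2.QuasiAffine.QAff)).1
      (Groth.Agent.Ega2.QuasiAffine.qaff_baseChange X₁.hom h1 (spHom (gAway (A' := A') t)))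
  obtain ⟨Y, π, a, b, -, sqa, sqb, hab⟩ := H A A' t hp (tS (sp A (Localization.Away t))) (tS (sp A A'))
    (XU' := Over.mk (spHom (gLoc (A' := A') t) ≫ sp A A'))
    (Over.homMk (spHom (gAway (A' := A') t)) hc) (Over.homMk (spHom (gLoc (A' := A') t)) rfl)
    (isPullback_over isPullback_square) (un'Str (sp A (Localization.Away t)) X₁) (un'Str (sp A A') X₂)
    (V' := V' (spHom (gAway (A' := A') t)) (spHom (gLoc (A' := A') t)) (sp A A') X₁)
    (Over.homMk (pullback.snd X₁.hom (spHom (gAway (A' := A') t))) rfl) (pV hc) (pY e)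
    (isPullback_over (IsPullback.of_hasPullback _ _)) (isPullback_over
      (IsPullback.of_iso_pullback ⟨by
        have h : e.hom.left ≫ pullback.snd X₂.hom (spHom (gLoc (A' := A') t)) =
          pullback.snd X₁.hom (spHom (gAway (A' := A') t)) := Over.w e.hom
        change (e.hom.left ≫ pullback.fst X₂.hom (spHom (gLoc (A' := A') t))) ≫ X₂.hom =
          pullback.snd X₁.hom (spHom (gAway (A' := A') t)) ≫ spHom (gLoc (A' := A') t)
        rw [Category.assoc, pullback.condition, ← h, Category.assoc]⟩ ((Over.forget _).mapIso e) rfl (Over.w e.hom)))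
  obtain ⟨W, p, hpe, hps⟩ := Y.property.atlas
  obtain ⟨β₁, h₁⟩ := exists_section _ sqa p
  obtain ⟨β₂, h₂⟩ := exists_section _ sqb p
  have e1 : Etale β₁.left := prop_section _ sqa p @Etale hpe β₁ h₁
  have e2 : Etale β₂.left := prop_section _ sqb p @Etale hpe β₂ h₂
  have s1 : Surjective β₁.left := prop_section _ sqa p @Surjective hps β₁ h₁
  have s2 : Surjective β₂.left := prop_section _ sqb p @Surjective hps β₂ h₂
  have w1 : β₁.left ≫ X₁.hom = pullback.snd W.hom (sp A (Localization.Away t)) := Over.w β₁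
  have w2 : β₂.left ≫ X₂.hom = pullback.snd W.hom (sp A A') := Over.w β₂
  obtain ⟨f1, f2⟩ := GlueFlat.flat_lfp hp W.hom (by rw [← w1]; infer_instance) (by rw [← w1]; infer_instance)
    (by rw [← w2]; infer_instance) (by rw [← w2]; infer_instance)
  have f3 : Surjective W.hom := by
    constructor
    intro s
    rcases hs s with ⟨s', rfl⟩ | ⟨s', rfl⟩
    · have : Surjective (pullback.snd W.hom (sp A (Localization.Away t))) := by rw [← w1]; infer_instance
      obtain ⟨z, rfl⟩ := this.surj s'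
      refine ⟨pullback.fst W.hom (sp A (Localization.Away t)) z, ?_⟩
      rw [← Scheme.Hom.comp_apply, ← Scheme.Hom.comp_apply, pullback.condition]
    · have : Surjective (pullback.snd W.hom (sp A A')) := by rw [← w2]; infer_instance
      obtain ⟨z, rfl⟩ := this.surj s'
      refine ⟨pullback.fst W.hom (sp A A') z, ?_⟩
      rw [← Scheme.Hom.comp_apply, ← Scheme.Hom.comp_apply, pullback.condition]
  obtain ⟨B₀, c, hB₀, hc1, hc2⟩ := GlueFlat.exists_affine W.hom
  let B : Over (Spec (CommRingCat.of A)) := Over.mk (c ≫ W.hom)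
  let c' : B ⟶ W := Over.homMk c rfl
  obtain ⟨γ₁, k₁⟩ := exists_section _ sqa ((yon _).map c' ≫ p)
  obtain ⟨γ₂, k₂⟩ := exists_section _ sqb ((yon _).map c' ≫ p)
  refine ⟨B, γ₁, γ₂, hc2, inferInstanceAs (Flat (c ≫ W.hom)), inferInstanceAs (LocallyOfFinitePresentation (c ≫ W.hom)),
    ?_, compat hc e sqb hab _ γ₁ γ₂ k₁ k₂⟩
  have : IsAffine B₀ := hB₀
  exact inferInstanceAs (QuasiCompact (c ≫ W.hom))

/-- **Glueing of torsors along a glueing pair.** -/
theorem exists_glue (H : QAffGlue.{u}) (hq : QuotBij (algebraMap A A') t) (ht : TorBij (algebraMap A A') t)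
    (hc : spHom (gAway (A' := A') t) ≫ sp A (Localization.Away t) = spHom (gLoc (A' := A') t) ≫ sp A A')
    (G : Over (Spec (CommRingCat.of A))) [GrpObj G] [Flat G.hom] [LocallyOfFinitePresentation G.hom]
    [G.left.IsQuasiAffine]
    (T : NonAbH1.TorsorSch (Red.bc (sp A (Localization.Away t)) G) Scheme.fppfPrecoverage)
    (T' : NonAbH1.TorsorSch (Red.bc (sp A A') G) Scheme.fppfPrecoverage)
    (e : NonAbH1.EquivIso
      ((T.act.bc (spHom (gAway (A' := A') t))).restrict
        (ActBC.bcCompIso (spHom (gAway (A' := A') t)) (sp A (Localization.Away t)) G hc).inv)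
      ((T'.act.bc (spHom (gLoc (A' := A') t))).restrict
        (ActBC.bcCompIso (spHom (gLoc (A' := A') t)) (sp A A') G rfl).inv)) :
    ∃ P : NonAbH1.TorsorSch G Scheme.fppfPrecoverage,
      Nonempty (NonAbH1.EquivIso (P.act.bc (sp A (Localization.Away t))) T.act) ∧
      Nonempty (NonAbH1.EquivIso (P.act.bc (sp A A')) T'.act) := by
  have hG1 : (Red.bc (sp A (Localization.Away t)) G).left.IsQuasiAffine := by
    have h1 : Mor2.IsQuasiAffine G.hom :=
      (HasAffineProperty.iff_of_isAffine (P := Groth.Agent.Ega2.QuasiAffine.QAff)).2 inferInstance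
    exact (HasAffineProperty.iff_of_isAffine (P := Groth.Agent.Ega2.QuasiAffine.QAff)).1
      (Groth.Agent.Ega2.QuasiAffine.qaff_baseChange G.hom h1 (sp A (Localization.Away t)))
  have hG2 : (Red.bc (sp A A') G).left.IsQuasiAffine := by
    have h1 : Mor2.IsQuasiAffine G.hom :=
      (HasAffineProperty.iff_of_isAffine (P := Groth.Agent.Ega2.QuasiAffine.QAff)).2 inferInstance
    exact (HasAffineProperty.iff_of_isAffine (P := Groth.Agent.Ega2.QuasiAffine.QAff)).1
      (Groth.Agent.Ega2.QuasiAffine.qaff_baseChange G.hom h1 (sp A A'))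
  have hG3 : Flat (Red.bc (sp A (Localization.Away t)) G).hom := inferInstanceAs (Flat (pullback.snd G.hom _))
  have hG4 : Flat (Red.bc (sp A A') G).hom := inferInstanceAs (Flat (pullback.snd G.hom _))
  have hG5 : LocallyOfFinitePresentation (Red.bc (sp A (Localization.Away t)) G).hom :=
    inferInstanceAs (LocallyOfFinitePresentation (pullback.snd G.hom _))
  have hG6 : LocallyOfFinitePresentation (Red.bc (sp A A') G).hom :=
    inferInstanceAs (LocallyOfFinitePresentation (pullback.snd G.hom _))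
  have hT1 : T.X.left.IsQuasiAffine := K551.FlatGlueTors.isQuasiAffine_of_torsor T.isTorsor
  have hT2 : T'.X.left.IsQuasiAffine := K551.FlatGlueTors.isQuasiAffine_of_torsor T'.isTorsor
  have hT3 := K551.Tors.flat_of_torsor T.isTorsor
  have hT4 := K551.Tors.flat_of_torsor T'.isTorsor
  have hT5 := K551.Tors.lfp_of_torsor T.isTorsor
  have hT6 := K551.Tors.lfp_of_torsor T'.isTorsor
  have hT7 := K551.Tors.surjective_of_torsor T.isTorsor
  have hT8 := K551.Tors.surjective_of_torsor T'.isTorsor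
  obtain ⟨B, β₁, β₂, b1, b2, b3, b4, hβ⟩ := exists_sections H hq ht hc T.X T'.X e.iso
  obtain ⟨P, a, ha, e₁, e₂⟩ := TwGlue.exists_torsor (exact₂ t hq ht) (surj t hq) T.isTorsor.1 T'.isTorsor.1 hc e β₁ β₂ hβ
  exact ⟨⟨P, a, ha⟩, e₁, e₂⟩

end main

end K597.GlueMain
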