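import Groth.Agent.NonAbH1.K597.GlueFlat
import Groth.Agent.NonAbH1.K597.TwGlue
import Groth.Agent.AlgSp.K594.Elem

/-!
# Sections over a common covering from the glued algebraic space
-/

set_option autoImplicit false
set_option backward.isDefEq.respectTransparency false
set_option backward.isDefEq.respectTransparency.types false
universe u

open CategoryTheory CategoryTheory.Limits MonoidalCategory CartesianMonoidalCategory MonObj GrpObj AlgebraicGeometry
  Opposite AlgSp

namespace K597.GlueSec

variable {S S' : Scheme.{u}} (j : S' ⟶ S)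

/-- `W ×_S S'` as a scheme over `S` -/
noncomputable abbrev bcS (W : Over S) : Over S := Over.mk (pullback.fst W.hom j ≫ W.hom)

/-- the projection to `W` -/
noncomputable abbrev bcFst (W : Over S) : bcS j W ⟶ W := Over.homMk (pullback.fst W.hom j) rfl

/-- the projection to `S'` -/
noncomputable abbrev bcSnd (W : Over S) : bcS j W ⟶ Over.mk j :=
  Over.homMk (pullback.snd W.hom j) pullback.condition.symm

/-- the structure map -/
noncomputable abbrev str (W : Over S) : W ⟶ Over.mk (𝟙 S) := Over.homMk W.hom (Category.comp_id _)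

/-- `S' → S` in `Over S` -/
noncomputable abbrev tS : Over.mk j ⟶ Over.mk (𝟙 S) := Over.homMk j (Category.comp_id _)

lemma hom_one_eq {W : Over S} (f g : W ⟶ Over.mk (𝟙 S)) : f = g := by
  ext1
  have h1 := Over.w f
  have h2 := Over.w g
  have e : ∀ k : W.left ⟶ S, k ≫ 𝟙 S = k := fun k => Category.comp_id k
  have h1' : f.left = W.hom := (e f.left).symm.trans h1
  have h2' : g.left = W.hom := (e g.left).symm.trans h2
  rw [h1', h2']

theorem isPullback_over {P X Y Z : Over S} {f : P ⟶ X} {g : P ⟶ Y} {h : X ⟶ Z} {k : Y ⟶ Z}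
    (sq : IsPullback f.left g.left h.left k.left) : IsPullback f g h k := by
  have : ReflectsLimit (cospan h k) (Over.forget S) := reflectsLimit_of_reflectsIsomorphisms _ _
  exact IsPullback.of_map_of_faithful (Over.forget S) sq

theorem isPullback_bcS (W : Over S) : IsPullback (bcFst j W) (bcSnd j W) (str W) (tS j) :=
  isPullback_over (IsPullback.of_hasPullback W.hom j)

/-- the object over `S` attached to `X` over `S'` -/
noncomputable abbrev un' (X : Over S') : Over S := Over.mk (X.hom ≫ j)

/-- its structure map -/
noncomputable abbrev un'Str (X : Over S') : un' j X ⟶ Over.mk j := Over.homMk X.hom rfl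

/-- a map over `S'` as a map over `S` -/
noncomputable abbrev mkS {W : Over S} {X : Over S'} (β : Red.bc j W ⟶ X) : bcS j W ⟶ un' j X :=
  Over.homMk β.left (by
    have h : β.left ≫ X.hom = pullback.snd W.hom j := Over.w β
    change β.left ≫ X.hom ≫ j = pullback.fst W.hom j ≫ W.hom
    rw [← Category.assoc, h, pullback.condition])

section

variable {F : Sp S} {π : F ⟶ (yon S).obj (Over.mk (𝟙 S))} {X : Over S'} {a : (yon S).obj (un' j X) ⟶ F}
  (sq : IsPullback a ((yon S).map (un'Str j X)) π ((yon S).map (tS j))) {W : Over S} (p : (yon S).obj W ⟶ F)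

include sq in
/-- A map from a scheme to the glued sheaf gives a map of the base change. -/
theorem exists_section : ∃ β : Red.bc j W ⟶ X,
    (yon S).map (mkS j β) ≫ a = (yon S).map (bcFst j W) ≫ p := by
  obtain ⟨q, hq⟩ := (yon S).map_surjective (p ≫ π)
  have hq' : q = str W := hom_one_eq _ _
  subst hq'
  have sq1 := (isPullback_bcS j W).map (yon S)
  let l := sq.lift ((yon S).map (bcFst j W) ≫ p) ((yon S).map (bcSnd j W)) (by
    rw [Category.assoc, ← hq, sq1.w])
  obtain ⟨m, hm⟩ := (yon S).map_surjective l
  have h1 : (yon S).map m ≫ a = (yon S).map (bcFst j W) ≫ p := by rw [hm]; exact sq.lift_fst _ _ _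
  have h2 : m ≫ un'Str j X = bcSnd j W := by
    apply (yon S).map_injective
    rw [Functor.map_comp, hm]
    exact sq.lift_snd _ _ _
  have h3 : m.left ≫ X.hom = pullback.snd W.hom j := congrArg (fun z => z.left) h2
  refine ⟨Over.homMk m.left h3, ?_⟩
  exact h1

include sq in
/-- and it inherits the properties of the map. -/
theorem prop_section (P : MorphismProperty Scheme.{u}) (hp : RepWith P p) (β : Red.bc j W ⟶ X)
    (hβ : (yon S).map (mkS j β) ≫ a = (yon S).map (bcFst j W) ≫ p) : P β.left := by
  obtain ⟨q, hq⟩ := (yon S).map_surjective (p ≫ π)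
  have hq' : q = str W := hom_one_eq _ _
  subst hq'
  have sq1 := (isPullback_bcS j W).map (yon S)
  rw [hq] at sq1
  have h2 : mkS j β ≫ un'Str j X = bcSnd j W := by
    ext1
    exact Over.w β
  have sq2 : IsPullback ((yon S).map (bcFst j W)) ((yon S).map (mkS j β)) p a := by
    refine (IsPullback.of_right ?_ hβ sq.flip).flip
    rw [← Functor.map_comp, h2]
    exact sq1.flip
  exact hp.2 _ _ _ sq2

end

end K597.GlueSec
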