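import Groth.Agent.NonAbH1.K597.TwGlue
import Groth.Prelude.Def_Neron

/-!
# The cocycle of a torsor under the generic fibre of a Neron model with an etale-local integral point
-/

set_option autoImplicit false
set_option backward.isDefEq.respectTransparency false
set_option backward.isDefEq.respectTransparency.types false
universe u

open CategoryTheory CategoryTheory.Limits MonoidalCategory CartesianMonoidalCategory MonObj GrpObj AlgebraicGeometry
  Opposite
open Groth.Agent.Books.BorelOrb K594.Cover K551.Tors K597.TwForm K597.TwComp K597.TwGlue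

namespace K597.NeronCoc

/-- the torsor attached to a cocycle whose presheaf of twisted sections is representable. -/
theorem exists_torsor_of_rep {S : Scheme.{u}} {G B P : Over S} [GrpObj G] (g : B ⊗ B ⟶ G) (hg : IsCoc g)
    [Surjective B.hom] [Flat B.hom] [LocallyOfFinitePresentation B.hom] (r : (Fg g).RepresentableBy P) :
    ∃ (a : AlgGrp.Action G P) (β : B ⟶ P), NonAbH1.IsTorsorFor Scheme.fppfPrecoverage a ∧
      ∀ (W : Over S) (b₀ b₁ : W ⟶ B), sm a (co g b₀ b₁) (b₁ ≫ β) = b₀ ≫ β := by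
  obtain ⟨β, hβ⟩ := exists_taut_sm r hg
  exact ⟨twAct r, β, ⟨isPseudoTorsorSch_twAct r (cov_toUnit B),
    K551.Tors.isLocallyTrivialFor_fppf B.hom ⟨β.left, Over.w β⟩⟩, hβ⟩

variable {R : Type u} [CommRing R] [IsDomain R] {X B : Over (Spec (CommRingCat.of R))} [GrpObj X]
  (hX : Neron.IsNeronModelOf R X ((Neron.genericFibre R).obj X) (Iso.refl _))
  {T : Over (Spec (CommRingCat.of (FractionRing R)))} {a : AlgGrp.Action (Red.bc (Neron.genPt R) X) T}
  (ha : NonAbH1.IsPseudoTorsorSch a) [Smooth B.hom] (τ : Red.bc (Neron.genPt R) B ⟶ T)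

include hX in
theorem map_injective {Y : Over (Spec (CommRingCat.of R))} [Smooth Y.hom] {f f' : Y ⟶ X}
    (h : (Over.pullback (Neron.genPt R)).map f = (Over.pullback (Neron.genPt R)).map f') : f = f' := by
  apply (hX.2.2.2.2 Y inferInstance).1
  change (Over.pullback (Neron.genPt R)).map f ≫ 𝟙 _ = (Over.pullback (Neron.genPt R)).map f' ≫ 𝟙 _
  rw [h]

omit [IsDomain R] in
lemma smooth_tensor (B C : Over (Spec (CommRingCat.of R))) [Smooth B.hom] [Smooth C.hom] : Smooth (B ⊗ C).hom := by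
  have e : (B ⊗ C).hom = Limits.pullback.fst B.hom C.hom ≫ B.hom := Over.tensorObj_hom _ _
  rw [e]
  infer_instance

include hX in
/-- **The cocycle**. -/
theorem exists_coc : ∃ g : B ⊗ B ⟶ X, IsCoc g ∧ (Over.pullback (Neron.genPt R)).map g =
    dif ha ((Over.pullback (Neron.genPt R)).map (fst B B) ≫ τ) ((Over.pullback (Neron.genPt R)).map (snd B B) ≫ τ) := by
  have h1 := smooth_tensor B B
  obtain ⟨g, hg⟩ := (hX.2.2.2.2 (B ⊗ B) h1).2 (dif ha ((Over.pullback (Neron.genPt R)).map (fst B B) ≫ τ)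
    ((Over.pullback (Neron.genPt R)).map (snd B B) ≫ τ))
  have hg' : (Over.pullback (Neron.genPt R)).map g =
    dif ha ((Over.pullback (Neron.genPt R)).map (fst B B) ≫ τ) ((Over.pullback (Neron.genPt R)).map (snd B B) ≫ τ) := by
    rw [← hg]
    exact (Category.comp_id _).symm
  refine ⟨g, ?_, hg'⟩
  have h2 := smooth_tensor B (B ⊗ B)
  have key : co g (fst B (B ⊗ B)) (snd B (B ⊗ B) ≫ fst B B) * co g (snd B (B ⊗ B) ≫ fst B B) (snd B (B ⊗ B) ≫ snd B B) =
      co g (fst B (B ⊗ B)) (snd B (B ⊗ B) ≫ snd B B) := by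
    apply map_injective hX
    rw [map_mul', map_co (G' := Red.bc (Neron.genPt R) X) _ ha τ g hg',
      map_co (G' := Red.bc (Neron.genPt R) X) _ ha τ g hg', map_co (G' := Red.bc (Neron.genPt R) X) _ ha τ g hg',
      dif_mul_dif]
  intro W b₀ b₁ b₂
  have := congrArg (lift b₀ (lift b₁ b₂) ≫ ·) key
  simp only [comp_mul, comp_co, lift_fst, lift_snd_assoc, lift_snd] at this
  exact this

include hX ha τ in
/-- **Extension of the torsor** when the twisted form is representable. -/
theorem exists_extension [Surjective B.hom]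
    (hrep : ∀ g : B ⊗ B ⟶ X, IsCoc g → ∃ P : Over (Spec (CommRingCat.of R)), Nonempty ((Fg g).RepresentableBy P)) :
    ∃ P : NonAbH1.TorsorSch X Scheme.fppfPrecoverage,
      Nonempty (NonAbH1.EquivIso (P.act.bc (Neron.genPt R)) a) := by
  obtain ⟨g, hg, hg'⟩ := exists_coc hX ha τ
  obtain ⟨P, ⟨r⟩⟩ := hrep g hg
  obtain ⟨b, γ, hb, hγ⟩ := exists_torsor_of_rep g hg r
  exact ⟨⟨P, b, hb⟩, K597.TwGlue.nonempty_equivIso_bc _ hb γ g hγ ha τ hg'⟩

end K597.NeronCoc
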