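import Groth.Agent.NonAbH1.K597.NeronCoc
import Groth.Agent.NonAbH1.K554.EtaleSec
import Groth.Agent.Sga7.H993.Lift
import Groth.Agent.Hensel.HenselPerm
import Groth.Agent.S0538
import Groth.Agent.S0539
import Groth.Agent.S0540

/-!
# Points over the fraction field of a strict henselization and etale-local integral points
-/

set_option autoImplicit false
set_option backward.isDefEq.respectTransparency false
set_option backward.isDefEq.respectTransparency.types false
universe u

open CategoryTheory CategoryTheory.Limits AlgebraicGeometry Opposite TensorProduct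

namespace K597.NeronPt

section alg

variable {R : Type u} [CommRing R] [IsDomain R] {K : Type u} [Field K] [Algebra R K] [IsFractionRing R K]
  {C : Type u} [CommRing C] [Algebra K C] [Algebra R C] [IsScalarTower R K C]

/-- `C` is a localization of a sub-`R`-algebra generated by multiples of generators. -/
theorem isLocalization_adjoin (s : Set C) (hs : Algebra.adjoin K s = ⊤) (P : Subalgebra R C)
    (hP : ∀ x ∈ s, ∃ r : R, r ≠ 0 ∧ r • x ∈ P) :
    IsLocalization (Algebra.algebraMapSubmonoid P (nonZeroDivisors R)) C := by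
  have hunit : ∀ r : R, r ≠ 0 → IsUnit (algebraMap R C r) := by
    intro r hr
    rw [IsScalarTower.algebraMap_apply R K C]
    refine IsUnit.map _ (IsUnit.mk0 _ ?_)
    rwa [Ne, FaithfulSMul.algebraMap_eq_zero_iff]
  have key : ∀ c : C, ∃ r : R, r ≠ 0 ∧ r • c ∈ P := by
    intro c
    have hc : c ∈ Algebra.adjoin K s := by rw [hs]; trivial
    induction hc using Algebra.adjoin_induction with
    | mem x hx => exact hP x hx
    | algebraMap k =>
      obtain ⟨a, b, hb, rfl⟩ := IsFractionRing.div_surjective (A := R) k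
      have hb' : b ≠ 0 := nonZeroDivisors.ne_zero hb
      refine ⟨b, hb', ?_⟩
      have : b • algebraMap K C (algebraMap R K a / algebraMap R K b) = algebraMap R C a := by
        rw [Algebra.smul_def, IsScalarTower.algebraMap_apply R K C, ← map_mul, mul_div_cancel₀,
          ← IsScalarTower.algebraMap_apply]
        rwa [Ne, FaithfulSMul.algebraMap_eq_zero_iff]
      rw [this]
      exact P.algebraMap_mem a
    | add x y _ _ hx hy =>
      obtain ⟨r, hr, h1⟩ := hx
      obtain ⟨r', hr', h2⟩ := hy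
      refine ⟨r * r', mul_ne_zero hr hr', ?_⟩
      have : (r * r') • (x + y) = r' • (r • x) + r • (r' • y) := by
        rw [smul_add, smul_smul, smul_smul, mul_comm r r']
      rw [this]
      exact P.add_mem (P.smul_mem h1 _) (P.smul_mem h2 _)
    | mul x y _ _ hx hy =>
      obtain ⟨r, hr, h1⟩ := hx
      obtain ⟨r', hr', h2⟩ := hy
      refine ⟨r * r', mul_ne_zero hr hr', ?_⟩
      have : (r * r') • (x * y) = (r • x) * (r' • y) := by
        rw [smul_mul_smul_comm]
      rw [this]
      exact P.mul_mem h1 h2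
  refine ⟨?_, ?_, ?_⟩
  · rintro ⟨_, r, hr, rfl⟩
    exact hunit r (nonZeroDivisors.ne_zero hr)
  · intro c
    obtain ⟨r, hr, h⟩ := key c
    refine ⟨⟨⟨_, h⟩, ⟨_, r, mem_nonZeroDivisors_of_ne_zero hr, rfl⟩⟩, ?_⟩
    change c * algebraMap R C r = r • c
    rw [Algebra.smul_def, mul_comm]
  · intro x y hxy
    exact ⟨1, by rw [Subtype.ext hxy]⟩

end alg

section sh

variable (R : Type u) [CommRing R] [IsDomain R] [IsDiscreteValuationRing R]
    (Rsh : Type u) [CommRing Rsh] [IsLocalRing Rsh] [IsDomain Rsh] [Algebra R Rsh] [IsLocalHom (algebraMap R Rsh)]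
    [Hensel.IsStrictHenselization R Rsh]

theorem exists_dvd (b : Rsh) (hb : b ≠ 0) : ∃ r : R, r ≠ 0 ∧ b ∣ algebraMap R Rsh r := by
  have hN : IsNoetherianRing Rsh := (Groth.Agent.S0540.result R Rsh).1 inferInstance
  have hm : IsLocalRing.maximalIdeal Rsh = (IsLocalRing.maximalIdeal R).map (algebraMap R Rsh) :=
    (Groth.Agent.S0538.result R Rsh).symm
  obtain ⟨ϖ, hϖ⟩ := IsDiscreteValuationRing.exists_irreducible R
  have hm' : IsLocalRing.maximalIdeal Rsh = Ideal.span {algebraMap R Rsh ϖ} := by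
    rw [hm, hϖ.maximalIdeal_eq, Ideal.map_span, Set.image_singleton]
  obtain ⟨n, hn⟩ := exists_maximalIdeal_pow_eq_of_principal Rsh ⟨⟨_, hm'⟩⟩ (Ideal.span {b}) (by
    rwa [Ne, Ideal.span_singleton_eq_bot])
  refine ⟨ϖ ^ n, pow_ne_zero n hϖ.ne_zero, ?_⟩
  rw [hm', Ideal.span_singleton_pow] at hn
  rw [map_pow, ← Ideal.mem_span_singleton, hn]
  exact Ideal.mem_span_singleton_self _

variable (Ksh : Type u) [Field Ksh] [Algebra Rsh Ksh] [IsFractionRing Rsh Ksh] [Algebra R Ksh] [IsScalarTower R Rsh Ksh]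
    [Algebra (FractionRing R) Ksh] [IsScalarTower R (FractionRing R) Ksh]

include Rsh in
theorem exists_smul_mem (z : Ksh) : ∃ r : R, r ≠ 0 ∧ ∃ w : Rsh, algebraMap Rsh Ksh w = r • z := by
  obtain ⟨a, b, hb, rfl⟩ := IsFractionRing.div_surjective (A := Rsh) z
  obtain ⟨r, hr, c, hc⟩ := exists_dvd R Rsh b (nonZeroDivisors.ne_zero hb)
  have hb' : algebraMap Rsh Ksh b ≠ 0 := by
    rw [Ne, FaithfulSMul.algebraMap_eq_zero_iff]; exact nonZeroDivisors.ne_zero hb
  refine ⟨r, hr, c * a, ?_⟩
  rw [Algebra.smul_def, IsScalarTower.algebraMap_apply R Rsh Ksh, hc, map_mul, map_mul]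
  field_simp

include Rsh in
theorem exists_etale_algHom (C : Type u) [CommRing C] [Algebra (FractionRing R) C] [Algebra.FiniteType (FractionRing R) C]
    (σ : C →ₐ[FractionRing R] Ksh) :
    ∃ (E : Type u) (_ : CommRing E) (_ : Algebra R E), Algebra.Etale R E ∧
      Surjective (Spec.map (CommRingCat.ofHom (algebraMap R E))) ∧
      Nonempty (C →ₐ[FractionRing R] FractionRing R ⊗[R] E) := by
  classical
  let _ : Algebra R C := ((algebraMap (FractionRing R) C).comp (algebraMap R (FractionRing R))).toAlgebra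
  have : IsScalarTower R (FractionRing R) C := IsScalarTower.of_algebraMap_eq fun _ => rfl
  let σ' : C →ₐ[R] Ksh := σ.restrictScalars R
  obtain ⟨s, hs⟩ := Algebra.FiniteType.out (R := FractionRing R) (A := C)
  choose r hr w hw using fun c : C => exists_smul_mem R Rsh Ksh (σ c)
  let P : Subalgebra R C := Algebra.adjoin R ((fun c => r c • c) '' (s : Set C))
  have hP : ∀ x ∈ (s : Set C), ∃ r : R, r ≠ 0 ∧ r • x ∈ P := fun x hx =>
    ⟨r x, hr x, Algebra.subset_adjoin ⟨x, hx, rfl⟩⟩
  have hloc := isLocalization_adjoin (K := FractionRing R) (s : Set C) hs P hP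
  have hfg : P.FG := ⟨s.image (fun c => r c • c), by rw [Finset.coe_image]⟩
  have hft : Algebra.FiniteType R P := (Subalgebra.fg_iff_finiteType P).1 hfg
  have hfp : Algebra.FinitePresentation R P := Algebra.FinitePresentation.of_finiteType.1 hft
  let ι : Rsh →ₐ[R] Ksh := IsScalarTower.toAlgHom R Rsh Ksh
  have hι : Function.Injective ι := IsFractionRing.injective Rsh Ksh
  have hrange : ∀ x : P, σ' x.1 ∈ ι.range := by
    have h1 : P ≤ (ι.range).comap σ' := by
      refine Algebra.adjoin_le ?_
      rintro _ ⟨x, hx, rfl⟩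
      refine ⟨w x, ?_⟩
      change algebraMap Rsh Ksh (w x) = σ' (r x • x)
      rw [hw, map_smul]
      rfl
    exact fun x => h1 x.2
  let φ : P →ₐ[R] Rsh := (AlgEquiv.ofInjective ι hι).symm.toAlgHom.comp ((σ'.comp P.val).codRestrict ι.range hrange)
  obtain ⟨E, _, _, hE, ψ, χ, h⟩ := Groth.Agent.Hensel.HenselPerm.lazardEtale_of_isStrictHenselization R Rsh P φ
  refine ⟨E, inferInstance, inferInstance, hE, ?_, ?_⟩
  · have hff := Groth.Agent.S0539.result R Rsh
    have h1 : Surjective (Spec.map (CommRingCat.ofHom (algebraMap R Rsh))) :=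
      ((flat_and_surjective_SpecMap_iff _).2 (RingHom.faithfullyFlat_algebraMap_iff.2 hff)).2
    have h2 : Spec.map (CommRingCat.ofHom (algebraMap R Rsh)) = Spec.map (CommRingCat.ofHom χ.toRingHom) ≫
        Spec.map (CommRingCat.ofHom (algebraMap R E)) := by
      rw [← Spec.map_comp, ← CommRingCat.ofHom_comp]
      congr 2
      exact χ.comp_algebraMap.symm
    rw [h2] at h1
    exact Surjective.of_comp (Spec.map (CommRingCat.ofHom χ.toRingHom)) _
  · let m : P →ₐ[R] FractionRing R ⊗[R] E := Algebra.TensorProduct.includeRight.comp ψ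
    let l : C →+* FractionRing R ⊗[R] E := IsLocalization.lift (M := Algebra.algebraMapSubmonoid P (nonZeroDivisors R))
      (g := m.toRingHom) (by
        rintro ⟨_, a, ha, rfl⟩
        change IsUnit (m (algebraMap R P a))
        rw [AlgHom.commutes, IsScalarTower.algebraMap_apply R (FractionRing R)]
        exact (IsUnit.mk0 _ (by
          rw [Ne, FaithfulSMul.algebraMap_eq_zero_iff]; exact nonZeroDivisors.ne_zero ha)).map _)
    have hl : ∀ a : R, l (algebraMap R C a) = algebraMap R _ a := by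
      intro a
      have : algebraMap R C a = algebraMap P C (algebraMap R P a) := rfl
      rw [this, IsLocalization.lift_eq]
      exact m.commutes a
    refine ⟨{ l with commutes' := fun k => ?_ }⟩
    have : (l.comp (algebraMap (FractionRing R) C)) = algebraMap (FractionRing R) (FractionRing R ⊗[R] E) := by
      apply IsLocalization.ringHom_ext (nonZeroDivisors R)
      ext a
      change l (algebraMap R C a) = _
      rw [hl]
      rfl
    exact RingHom.congr_fun this k

include Rsh in
/-- **Descent of a `K^sh`-point** to an etale neighbourhood. -/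
theorem exists_etale_point (T : Over (Spec (CommRingCat.of (FractionRing R)))) [LocallyOfFiniteType T.hom]
    (h : NonAbH1.HasSectionOver T (Spec.map (CommRingCat.ofHom (algebraMap (FractionRing R) Ksh)))) :
    ∃ B : Over (Spec (CommRingCat.of R)), Etale B.hom ∧ Surjective B.hom ∧ IsAffine B.left ∧
      Nonempty (Red.bc (Neron.genPt R) B ⟶ T) := by
  obtain ⟨s, hs⟩ := h
  let x : T.left := s (IsLocalRing.closedPoint Ksh)
  obtain ⟨U, hUa, hxU⟩ : ∃ U : T.left.Opens, IsAffine (U : Scheme.{u}) ∧ x ∈ U := by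
    obtain ⟨_, ⟨U, hU, rfl⟩, hxU, -⟩ := T.left.isBasis_affineOpens.exists_subset_of_mem_open (Set.mem_univ x) isOpen_univ
    exact ⟨U, hU, hxU⟩
  have hsU : Set.range s ⊆ Set.range U.ι := by
    rintro _ ⟨z, rfl⟩
    rw [Subsingleton.elim z (IsLocalRing.closedPoint Ksh), Scheme.Opens.range_ι]
    exact hxU
  let s' : Spec (CommRingCat.of Ksh) ⟶ U := IsOpenImmersion.lift U.ι s hsU
  have hs' : s' ≫ U.ι = s := IsOpenImmersion.lift_fac _ _ _
  let p : Spec Γ(U, ⊤) ⟶ T.left := (U : Scheme.{u}).isoSpec.inv ≫ U.ι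
  obtain ⟨κ, hκ⟩ := Spec.map_surjective (p ≫ T.hom)
  obtain ⟨ς, hς⟩ := Spec.map_surjective (s' ≫ (U : Scheme.{u}).isoSpec.hom)
  let _ : Algebra (FractionRing R) Γ(U, ⊤) := κ.hom.toAlgebra
  have hft : Algebra.FiniteType (FractionRing R) Γ(U, ⊤) := by
    have : LocallyOfFiniteType (Spec.map κ) := by rw [hκ]; infer_instance
    exact (HasRingHomProperty.Spec_iff (P := @LocallyOfFiniteType)).1 this
  have hcomp : κ ≫ ς = CommRingCat.ofHom (algebraMap (FractionRing R) Ksh) := by
    apply Spec.map_injective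
    rw [Spec.map_comp, hκ, hς, ← hs]
    simp [p, hs'.symm]
  let σ : Γ(U, ⊤) →ₐ[FractionRing R] Ksh :=
    { ς.hom with commutes' := fun k => congrArg (fun z => z.hom k) hcomp }
  obtain ⟨E, _, _, hE, hE', ⟨m⟩⟩ := exists_etale_algHom R Rsh Ksh Γ(U, ⊤) σ
  let B : Over (Spec (CommRingCat.of R)) := Over.mk (Spec.map (CommRingCat.ofHom (algebraMap R E)))
  refine ⟨B, (HasRingHomProperty.Spec_iff (P := @Etale)).2 (RingHom.etale_algebraMap.2 hE), hE',
    inferInstanceAs (IsAffine (Spec _)), ⟨?_⟩⟩
  refine Over.homMk ((pullbackSymmetry _ _).hom ≫ (pullbackSpecIso R (FractionRing R) E).hom ≫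
    Spec.map (CommRingCat.ofHom m.toRingHom) ≫ p) ?_
  have h1 : Spec.map (CommRingCat.ofHom m.toRingHom) ≫ p ≫ T.hom =
      Spec.map (CommRingCat.ofHom (algebraMap (FractionRing R) (FractionRing R ⊗[R] E))) := by
    rw [← hκ, ← Spec.map_comp]
    congr 1
    ext k
    exact m.commutes k
  rw [Category.assoc, Category.assoc, Category.assoc, h1]
  change _ = pullback.snd (Spec.map (CommRingCat.ofHom (algebraMap R E))) (Neron.genPt R)
  rw [← pullbackSymmetry_hom_comp_fst]
  congr 1
  exact pullbackSpecIso_hom_fst _ _ _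

/-- **Points from an extension**. -/
theorem hasSectionOver_of_extension {X : Over (Spec (CommRingCat.of R))} [GrpObj X] [Smooth X.hom]
    (P : NonAbH1.TorsorSch X Scheme.fppfPrecoverage) :
    NonAbH1.HasSectionOver P.X (Spec.map (CommRingCat.ofHom (algebraMap R Rsh))) := by
  have h1 : Smooth P.X.hom := K551.Tors.smooth_of_torsor P.isTorsor
  have h2 : Surjective P.X.hom := K551.Tors.surjective_of_torsor P.isTorsor
  obtain ⟨R', _, _, hR', hff, s, hs⟩ := K554.EtaleSec.exists_etale_ring R P.X.hom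
  have hlaz : Groth.Agent.Hensel.Lazard.Laz R R' := fun Q _ _ _ φ => ⟨R', _, _, hR', φ, AlgHom.id R R', AlgHom.id_comp _⟩
  have h3 : HenselianLocalRing Rsh := Hensel.IsStrictHenselization.henselian (R := R)
  have h4 := Hensel.IsStrictHenselization.isSepClosure (R := R) (S := Rsh)
  have h5 : IsSepClosed (IsLocalRing.ResidueField Rsh) := h4.sep_closed
  obtain ⟨m⟩ := Groth.Agent.Sga7.H993.Lift.exists_algHom (T := Rsh) hlaz
  refine ⟨Spec.map (CommRingCat.ofHom m.toRingHom) ≫ s, ?_⟩
  rw [Category.assoc, hs, ← Spec.map_comp, ← CommRingCat.ofHom_comp]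
  congr 2
  exact m.comp_algebraMap

end sh

/-- The representability statement needed: torsors under a smooth separated group scheme of finite type over a
discrete valuation ring, trivial over an etale covering, are schemes. -/
def Rep : Prop :=
  ∀ (R : Type u) [CommRing R] [IsDomain R] [IsDiscreteValuationRing R] (X : Over (Spec (CommRingCat.of R))) [GrpObj X]
    [Smooth X.hom] [IsSeparated X.hom] [QuasiCompact X.hom] (B : Over (Spec (CommRingCat.of R))) [Etale B.hom]
    [Surjective B.hom] [IsAffine B.left]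
    (g : MonoidalCategoryStruct.tensorObj B B ⟶ X), K597.TwForm.IsCoc g →
    ∃ P : Over (Spec (CommRingCat.of R)), Nonempty ((K597.TwForm.Fg g).RepresentableBy P)

theorem main (hrep : Rep.{u}) (R : Type u) [CommRing R]
    [IsDomain R] [IsDiscreteValuationRing R]
    (Rsh : Type u) [CommRing Rsh] [IsLocalRing Rsh] [IsDomain Rsh] [Algebra R Rsh] [IsLocalHom (algebraMap R Rsh)]
    [Hensel.IsStrictHenselization R Rsh]
    (Ksh : Type u) [Field Ksh] [Algebra Rsh Ksh] [IsFractionRing Rsh Ksh] [Algebra R Ksh] [IsScalarTower R Rsh Ksh]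
    [Algebra (FractionRing R) Ksh] [IsScalarTower R (FractionRing R) Ksh]
    (X : Over (Spec (CommRingCat.of R))) [GrpObj X] (hX : Neron.IsNeronModelOf R X ((Neron.genericFibre R).obj X) (Iso.refl _))
    (T : NonAbH1.TorsorSch (Red.bc (Neron.genPt R) X) Scheme.fppfPrecoverage) :
    (∃ P : NonAbH1.TorsorSch X Scheme.fppfPrecoverage, Nonempty (NonAbH1.EquivIso (P.act.bc (Neron.genPt R)) T.act)) ↔
      NonAbH1.HasSectionOver T.X (Spec.map (CommRingCat.ofHom (algebraMap (FractionRing R) Ksh))) := by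
  have i1 : Smooth X.hom := hX.1
  have i2 : IsSeparated X.hom := hX.2.1
  have i3 : QuasiCompact X.hom := hX.2.2.2.1
  constructor
  · rintro ⟨P, ⟨e⟩⟩
    obtain ⟨s, hs⟩ := hasSectionOver_of_extension R Rsh P
    have h1 : (Spec.map (CommRingCat.ofHom (algebraMap Rsh Ksh)) ≫ s) ≫ P.X.hom =
        Spec.map (CommRingCat.ofHom (algebraMap (FractionRing R) Ksh)) ≫ Neron.genPt R := by
      rw [Category.assoc, hs, ← Spec.map_comp, ← Spec.map_comp, ← CommRingCat.ofHom_comp, ← CommRingCat.ofHom_comp,
        ← IsScalarTower.algebraMap_eq, ← IsScalarTower.algebraMap_eq]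
    refine ⟨pullback.lift _ _ h1 ≫ e.iso.hom.left, ?_⟩
    have h2 : e.iso.hom.left ≫ T.X.hom = pullback.snd P.X.hom (Neron.genPt R) := Over.w e.iso.hom
    rw [Category.assoc, h2, pullback.lift_snd]
  · intro h
    have i4 : LocallyOfFinitePresentation T.X.hom := by
      have : LocallyOfFinitePresentation (Red.bc (Neron.genPt R) X).hom :=
        inferInstanceAs (LocallyOfFinitePresentation (pullback.snd X.hom (Neron.genPt R)))
      exact K551.Tors.lfp_of_torsor T.isTorsor
    obtain ⟨B, b1, b2, b3, ⟨τ⟩⟩ := exists_etale_point R Rsh Ksh T.X h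
    exact K597.NeronCoc.exists_extension hX T.isTorsor.1 τ fun g hg => hrep R X B g hg

end K597.NeronPt
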