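import Groth.Agent.NonAbH1.K597.TwForm
import Groth.Agent.Desc.IntEff
import Groth.Agent.S7483
import Groth.Agent.S1131
import Groth.Agent.S1132

/-!
# Representability of the twisted form: descent along a finite locally free covering

* `isZarSheaf_Fg`, `repFg'` (restriction along `f : W ⟶ S` with a lift to `B`);
* `exists_rep_of_finite` : descent of representability along a finite locally free surjective `q`, when finite sets of
  points over one point of the base lie in affine opens;
* `exists_local` : Zariski-local lifts of `q : T ⟶ S` to `B` give representability of the restriction to `T`.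
* for `r : (restr q (Fg g)).RepresentableBy Y`: the action `qAct r` of `Red.bc q G` on `Y` and
  `isPseudoTorsorSch_qAct`.
-/

set_option autoImplicit false
set_option backward.isDefEq.respectTransparency false
set_option backward.isDefEq.respectTransparency.types false
universe u

open CategoryTheory CategoryTheory.Limits MonoidalCategory CartesianMonoidalCategory MonObj GrpObj AlgebraicGeometry
  Opposite
open Groth.Agent.Books.BorelOrb K594.Cover K554.FibAct K597.TwForm K554.BcPt
open Groth.Agent.Desc.SecFunctor (restr)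
open Groth.Agent.Desc.SecPresheaf (IsPSheaf IsDesc projT ofPresheaf representableByOfEffective)
open Groth.Agent.Picfga.OverRep (IsZarSheaf)

namespace K597.RepFin

variable {S : Scheme.{u}}

section zar

variable {G B : Over S} [GrpObj G] (g : B ⊗ B ⟶ G)

/-- `Fg` is a Zariski sheaf. -/
theorem isZarSheaf_Fg : IsZarSheaf (Fg g) := by
  intro T 𝒰 x hx
  let 𝒱 : Groth.Agent.Picfga.OverRep.Cov (T ⊗ B) :=
    ⟨𝒰.ι, fun i => 𝒰.V i ⊗ B, fun i => 𝒰.j i ▷ B,
      fun i => MorphismProperty.of_isPullback (P := @IsOpenImmersion)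
        ((isPullback_whiskerRight (𝒰.j i) B).map (Over.forget S)) (𝒰.isOpen i),
      fun t => by
        obtain ⟨i, v, hv⟩ := 𝒰.covers ((fst T B).left t)
        obtain ⟨w, -, hw⟩ := Scheme.exists_preimage_of_isPullback
          ((isPullback_whiskerRight (𝒰.j i) B).map (Over.forget S)) v t hv
        exact ⟨i, w, hw⟩⟩
  obtain ⟨y, hy, huy⟩ := K594.Cover.isZarSheaf ((AlgSp.yon S).obj G) (T ⊗ B) 𝒱 (fun i => ULift.up (x i).1)
    (fun i k Z y₀ y₁ h => by
      have e1 : (y₀ ≫ fst _ _) ≫ 𝒰.j i = (y₁ ≫ fst _ _) ≫ 𝒰.j k := by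
        have := congrArg (· ≫ fst T B) h
        simpa [𝒱] using this
      have e2 : y₀ ≫ snd _ _ = y₁ ≫ snd _ _ := by
        have := congrArg (· ≫ snd T B) h
        simpa [𝒱] using this
      have e3 := congrArg Subtype.val (hx i k Z (y₀ ≫ fst _ _) (y₁ ≫ fst _ _) e1)
      rw [Fg_map_val, Fg_map_val] at e3
      have e4 := congrArg (lift (𝟙 Z) (y₀ ≫ snd _ _) ≫ ·) e3
      simp only [lift_whiskerRight_assoc, Category.id_comp] at e4
      rw [lift_fst_snd_eq, e2, lift_fst_snd_eq] at e4
      exact congrArg ULift.up e4)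
  have hy' : ∀ i, 𝒰.j i ▷ B ≫ y.down = (x i).1 := fun i => congrArg ULift.down (hy i)
  refine ⟨⟨y.down, fun W z b₀ b₁ => ?_⟩, fun i => Subtype.ext (hy' i), fun s hs => ?_⟩
  · let 𝒲 : Groth.Agent.Picfga.OverRep.Cov W :=
      ⟨𝒰.ι, fun i => Over.mk (pullback.snd (𝒰.j i).left z.left ≫ W.hom),
        fun i => Over.homMk (pullback.snd (𝒰.j i).left z.left) rfl,
        fun i => inferInstanceAs (IsOpenImmersion (pullback.snd (𝒰.j i).left z.left)),
        fun t => by
          obtain ⟨i, v, hv⟩ := 𝒰.covers (z.left t)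
          obtain ⟨w, -, hw⟩ := Scheme.Pullback.exists_preimage_pullback v t hv
          exact ⟨i, w, hw⟩⟩
    have key := ((K594.Cover.isZarSheaf ((AlgSp.yon S).obj G) W 𝒲
      (fun i => ULift.up (𝒲.j i ≫ lift z b₁ ≫ y.down)) (fun i k Z a b hab => by
        apply congrArg ULift.up
        change a ≫ 𝒲.j i ≫ _ = b ≫ 𝒲.j k ≫ _
        rw [← Category.assoc, hab, Category.assoc])).unique
        (y₁ := ULift.up (lift z b₁ ≫ y.down)) (y₂ := ULift.up ((lift z b₀ ≫ y.down) * co g b₀ b₁))
        (fun i => rfl) (fun i => by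
          apply congrArg ULift.up
          change 𝒲.j i ≫ ((lift z b₀ ≫ y.down) * co g b₀ b₁) = 𝒲.j i ≫ lift z b₁ ≫ y.down
          let z' : 𝒲.V i ⟶ 𝒰.V i := Over.homMk (pullback.fst (𝒰.j i).left z.left) (by
            change _ = pullback.snd (𝒰.j i).left z.left ≫ W.hom
            rw [← Over.w (𝒰.j i), ← Over.w z, pullback.condition_assoc])
          have hz' : 𝒲.j i ≫ z = z' ≫ 𝒰.j i := by
            ext1; exact pullback.condition.symm
          rw [comp_mul, comp_co, comp_lift_assoc, comp_lift_assoc, hz']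
          have e := (x i).2 (𝒲.V i) z' (𝒲.j i ≫ b₀) (𝒲.j i ≫ b₁)
          rw [← hy' i, lift_whiskerRight_assoc, lift_whiskerRight_assoc] at e
          exact e.symm))
    exact congrArg ULift.down key
  · apply Subtype.ext
    exact congrArg ULift.down (huy (ULift.up s.1) (fun i => congrArg ULift.up (congrArg Subtype.val (hs i))))

variable {g}

/-- The restriction of `Fg` along a morphism which lifts to `B` is represented by the base change of `G`. -/
noncomputable def repFg' (hg : IsCoc g) {W : Scheme.{u}} (f : W ⟶ S) (b : W ⟶ B.left) (hb : b ≫ B.hom = f) :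
    (restr f (Fg g)).RepresentableBy (Red.bc f G) where
  homEquiv {Y} := (K554.BcPt.mulEquiv f Y).symm.toEquiv.trans
    (fgEquiv hg (Z := (Over.map f).obj Y) (Over.homMk (Y.hom ≫ b) (by
      rw [Category.assoc, hb]; rfl))).symm
  homEquiv_comp {Y Y'} φ h := by
    change (fgEquiv hg _).symm (K554.BcPt.un f (φ ≫ h)) = (Fg g).map _ ((fgEquiv hg _).symm (K554.BcPt.un f h))
    rw [Equiv.symm_apply_eq]
    have hY : ∀ Y : Over W, (Y.hom ≫ b) ≫ B.hom = ((Over.map f).obj Y).hom := fun Y => by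
      rw [Category.assoc, hb]; rfl
    have e : (Over.homMk (Y.hom ≫ b) (hY Y) : (Over.map f).obj Y ⟶ B) =
      (Over.map f).map φ ≫ (Over.homMk (Y'.hom ≫ b) (hY Y') : (Over.map f).obj Y' ⟶ B) := by
      ext1
      change Y.hom ≫ b = φ.left ≫ Y'.hom ≫ b
      rw [Over.w_assoc]
    have h1 := fgEquiv_nat hg ((Over.map f).map φ) (Over.homMk (Y'.hom ≫ b) (hY Y') : (Over.map f).obj Y' ⟶ B)
      ((fgEquiv hg (Over.homMk (Y'.hom ≫ b) (hY Y'))).symm (K554.BcPt.un f h))
    rw [Equiv.apply_symm_apply, ← e, ← K554.BcPt.un_comp] at h1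
    exact h1.symm

/-- Descent of representability along a finite locally free surjective morphism. -/
theorem exists_rep_of_finite {T S : Scheme.{u}} (q : T ⟶ S) [Surjective q] [IsFinite q] [Flat q]
    [LocallyOfFinitePresentation q]
    {F : (Over S)ᵒᵖ ⥤ Type u} (hF : IsPSheaf q F) (E : Over T)
    (hE : ∀ (y : S) (s : Finset ↑(E.left)), (∀ v ∈ s, q (E.hom v) = y) → ∃ U : E.left.Opens, IsAffineOpen U ∧ ∀ v ∈ s, v ∈ U)
    (e : (restr q F).RepresentableBy E) :
    ∃ U : Over S, Nonempty (F.RepresentableBy U) := by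
  obtain ⟨U, ⟨i⟩⟩ := Groth.Agent.S7483.result q (ofPresheaf e) hE
  have := Groth.Agent.S1131.result q
  have := Groth.Agent.S1132.result q
  exact ⟨U, ⟨representableByOfEffective e hF i⟩⟩

/-- `Fg` is a sheaf for flat surjective finitely presented morphisms to the base. -/
theorem isPSheaf_Fg' {T : Scheme.{u}} (q : T ⟶ S) [Surjective q] [Flat q] [LocallyOfFinitePresentation q] :
    IsPSheaf q (Fg g) := by
  intro T'
  apply isDesc_Fg
  exact ⟨inferInstanceAs (Flat (pullback.snd q T'.hom)),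
    inferInstanceAs (LocallyOfFinitePresentation (pullback.snd q T'.hom)),
    inferInstanceAs (Surjective (pullback.snd q T'.hom))⟩

/-- Zariski-local lifts to `B` give representability of the restriction. -/
theorem exists_local (hg : IsCoc g) {T : Scheme.{u}} (q : T ⟶ S)
    (h : ∀ t : T, ∃ (W : T.Opens) (_ : t ∈ W) (b : W.toScheme ⟶ B.left), b ≫ B.hom = W.ι ≫ q)
    (P : MorphismProperty Scheme.{u}) [IsZariskiLocalAtTarget P] [P.IsStableUnderBaseChange] (hP : P G.hom) :
    ∃ Y : Over T, P Y.hom ∧ Nonempty ((restr q (Fg g)).RepresentableBy Y) := by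
  choose W hW b hb using h
  exact Groth.Agent.Desc.ZarGlue.exists_rep_of_openCover_prop (F := restr q (Fg g)) W (fun t => ⟨t, hW t⟩)
    (fun t => Red.bc ((W t).ι ≫ q) G) (fun t => (repFg' hg ((W t).ι ≫ q) (b t) (hb t)).ofIso (Groth.Agent.Desc.SecDescent.restrCompIso rfl (Fg g)).symm)
    (Groth.Agent.Desc.IntEff.isZarSheaf_restr q (isZarSheaf_Fg g)) P
    (fun t => P.pullback_snd _ _ hP)

end zar

section act

variable {T : Scheme.{u}} {q : T ⟶ S} {G B : Over S} [GrpObj G] {g : B ⊗ B ⟶ G} {Y : Over T}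
  (r : (restr q (Fg g)).RepresentableBy Y)

/-- the coordinate of a point of `Y` at a point of `B`. -/
noncomputable def crd {W : Over T} (x : W ⟶ Y) {V : Over S} (w : V ⟶ (Over.map q).obj W) (b : V ⟶ B) : V ⟶ G :=
  lift w b ≫ (r.homEquiv x).1

lemma comp_crd {W : Over T} (x : W ⟶ Y) {V V' : Over S} (v : V' ⟶ V) (w : V ⟶ (Over.map q).obj W) (b : V ⟶ B) :
    v ≫ crd r x w b = crd r x (v ≫ w) (v ≫ b) := by
  rw [crd, crd, comp_lift_assoc]

lemma crd_comp {W W' : Over T} (f : W' ⟶ W) (x : W ⟶ Y) {V : Over S} (w : V ⟶ (Over.map q).obj W') (b : V ⟶ B) :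
    crd r (f ≫ x) w b = crd r x (w ≫ (Over.map q).map f) b := by
  rw [crd, crd, r.homEquiv_comp]
  change lift w b ≫ (Over.map q).map f ▷ B ≫ (r.homEquiv x).1 = _
  rw [lift_whiskerRight_assoc]

lemma crd_mul_co {W : Over T} (x : W ⟶ Y) {V : Over S} (w : V ⟶ (Over.map q).obj W) (b₀ b₁ : V ⟶ B) :
    crd r x w b₀ * co g b₀ b₁ = crd r x w b₁ :=
  ((r.homEquiv x).2 V w b₀ b₁).symm

/-- coordinates determine a point. -/
lemma crd_ext {W : Over T} {x y : W ⟶ Y}
    (h : ∀ (V : Over S) (w : V ⟶ (Over.map q).obj W) (b : V ⟶ B), crd r x w b = crd r y w b) : x = y := by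
  apply r.homEquiv.injective
  apply Subtype.ext
  have := h _ (fst ((Over.map q).obj W) B) (snd _ B)
  rw [crd, crd, lift_fst_snd, Category.id_comp, Category.id_comp] at this
  exact this

/-- points from coordinates. -/
lemma exists_crd {W : Over T} (s : (Over.map q).obj W ⊗ B ⟶ G) (hs : Tw g s) :
    ∃ x : W ⟶ Y, ∀ (V : Over S) (w : V ⟶ (Over.map q).obj W) (b : V ⟶ B), crd r x w b = lift w b ≫ s := by
  refine ⟨r.homEquiv.symm ⟨s, hs⟩, fun V w b => ?_⟩
  rw [crd, Equiv.apply_symm_apply]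

lemma exists_act {W : Over T} (h : (Over.map q).obj W ⟶ G) (x : W ⟶ Y) :
    ∃ y : W ⟶ Y, ∀ (V : Over S) (w : V ⟶ (Over.map q).obj W) (b : V ⟶ B),
      crd r y w b = (w ≫ h) * crd r x w b := by
  obtain ⟨y, hy⟩ := exists_crd r ((fst _ B ≫ h) * crd r x (fst _ B) (snd _ B)) (fun V z b₀ b₁ => by
    rw [comp_mul, comp_mul, comp_crd, comp_crd, lift_fst_assoc, lift_fst_assoc, lift_fst, lift_fst, lift_snd,
      lift_snd, _root_.mul_assoc, crd_mul_co])
  refine ⟨y, fun V w b => ?_⟩
  rw [hy, comp_mul, comp_crd, lift_fst_assoc, lift_fst, lift_snd]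

/-- the action of the base change of `G` -/
noncomputable def qact : Red.bc q G ⊗ Y ⟶ Y := (exists_act r (un q (fst _ _)) (snd (Red.bc q G) Y)).choose

lemma crd_qact {W : Over T} (h : W ⟶ Red.bc q G) (x : W ⟶ Y) {V : Over S} (w : V ⟶ (Over.map q).obj W) (b : V ⟶ B) :
    crd r (lift h x ≫ qact r) w b = (w ≫ un q h) * crd r x w b := by
  have := (exists_act r (un q (fst _ _)) (snd (Red.bc q G) Y)).choose_spec V (w ≫ (Over.map q).map (lift h x)) b
  rw [crd_comp, qact, this, Category.assoc, ← un_comp, lift_fst, ← crd_comp, lift_snd]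

/-- the action of the base change of `G` -/
noncomputable def qAct : AlgGrp.Action (Red.bc q G) Y :=
  mkAction (qact r)
    (fun T x => crd_ext r fun V w b => by rw [crd_qact, un_one, comp_one, _root_.one_mul])
    (fun T h h' x => crd_ext r fun V w b => by
      rw [crd_qact, crd_qact, crd_qact, un_mul, comp_mul, _root_.mul_assoc])

lemma crd_sm {W : Over T} (h : W ⟶ Red.bc q G) (x : W ⟶ Y) {V : Over S} (w : V ⟶ (Over.map q).obj W) (b : V ⟶ B) :
    crd r (sm (qAct r) h x) w b = (w ≫ un q h) * crd r x w b := crd_qact r h x w b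

theorem isPseudoTorsorSch_qAct (hB : Cov (toUnit B)) : NonAbH1.IsPseudoTorsorSch (qAct r) := by
  refine K551.Tors.isPseudoTorsorSch_of_points _ fun W x x' => ?_
  obtain ⟨h, hh⟩ := cov_glue (cov_fst ((Over.map q).obj W) hB)
    (crd r x (fst _ B) (snd _ B) * (crd r x' (fst _ B) (snd _ B))⁻¹)
    (fun Z a b hab => by
      rw [comp_mul, comp_mul, comp_inv, comp_inv, comp_crd, comp_crd, comp_crd, comp_crd, hab,
        ← crd_mul_co r _ _ (b ≫ snd _ B) (a ≫ snd _ B), ← crd_mul_co r _ _ (b ≫ snd _ B) (a ≫ snd _ B)]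
      group)
  refine ⟨mk q h, ?_, fun h' hh' => ?_⟩
  · apply r.homEquiv.injective
    apply Subtype.ext
    have h1 : ∀ y : W ⟶ Y, crd r y (fst _ B) (snd _ B) = (r.homEquiv y).1 := fun y => by
      rw [crd, lift_fst_snd, Category.id_comp]
    rw [← h1, ← h1, crd_sm, un_mk, hh]
    group
  · apply un_injective q
    rw [un_mk]
    apply cov_ext (cov_fst _ hB)
    rw [hh, ← hh', crd_sm]
    group

end act

end K597.RepFin
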