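import Groth.Agent.NonAbH1.K597.GenTrE
import Groth.Agent.NonAbH1.K597.GalCov
import Groth.Agent.NonAbH1.K597.RepFin
import Groth.Agent.NonAbH1.K597.NeronPt
import Groth.Agent.CycA.FinLocal

/-!
# Representability of torsors under smooth separated groups over a discrete valuation ring

`rep : K597.NeronPt.Rep`: the twisted form of a smooth separated group scheme of finite type over a DVR attached to a cocycle
over an étale covering is a scheme.
-/

set_option autoImplicit false
set_option backward.isDefEq.respectTransparency false
set_option backward.isDefEq.respectTransparency.types false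
universe u

open CategoryTheory CategoryTheory.Limits MonoidalCategory CartesianMonoidalCategory MonObj GrpObj AlgebraicGeometry

namespace K597.RepMain

section ring

variable (R : Type u) [CommRing R] [IsDomain R] [IsDiscreteValuationRing R] (K L : Type u) [Field K] [Field L]
  [Algebra R K] [IsFractionRing R K] [Algebra K L] [Algebra R L] [IsScalarTower R K L] [FiniteDimensional K L]
  [Algebra.IsSeparable K L]

include K in
theorem ring_facts : IsDedekindDomain (integralClosure R L) ∧ ¬ IsField (integralClosure R L) ∧
    Finite (MaximalSpectrum (integralClosure R L)) ∧ Module.Finite R (integralClosure R L) ∧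
    Module.Flat R (integralClosure R L) ∧ Function.Injective (algebraMap R (integralClosure R L)) := by
  have h1 : IsDedekindDomain (integralClosure R L) := IsIntegralClosure.isDedekindDomain R K L _
  have hint : Algebra.IsIntegral R (integralClosure R L) := IsIntegralClosure.isIntegral_algebra R L
  have hinj : Function.Injective (algebraMap R (integralClosure R L)) := by
    have : Function.Injective (algebraMap R L) := by
      rw [IsScalarTower.algebraMap_eq R K L]
      exact (algebraMap K L).injective.comp (IsFractionRing.injective R K)
    rw [IsScalarTower.algebraMap_eq R (integralClosure R L) L, RingHom.coe_comp] at this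
    exact Function.Injective.of_comp this
  have h2 : ¬ IsField (integralClosure R L) := fun h =>
    IsDiscreteValuationRing.not_isField R (isField_of_isIntegral_of_isField hinj h)
  have h3 : Module.Finite R (integralClosure R L) := IsIntegralClosure.finite R K L _
  have h5 : Module.Flat R (integralClosure R L) := by
    have htf : Module.IsTorsionFree R (integralClosure R L) := Module.isTorsionFree_iff_algebraMap_injective.2 hinj
    infer_instance
  exact ⟨h1, h2, Groth.Agent.CycA.FinLocal.finite_maximalSpectrum (A := R), h3, h5, hinj⟩

end ring

/-- **Representability of torsors.** -/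
theorem rep : K597.NeronPt.Rep.{u} := by
  intro R _ _ _ X _ _ _ _ B _ _ _ g hg
  let K := FractionRing R
  obtain ⟨L, _, _, _, _, _, hGal, -, hcov⟩ := GalCov.exists_cover R K B K
  have hsep : Algebra.IsSeparable K L := hGal.to_isSeparable
  obtain ⟨h1, h2, h3, h4, h5, h6⟩ := ring_facts R K L
  let q : Spec (CommRingCat.of (integralClosure R L)) ⟶ Spec (CommRingCat.of R) :=
    Spec.map (CommRingCat.ofHom (algebraMap R (integralClosure R L)))
  have q1 : IsFinite q := by
    rw [IsFinite.SpecMap_iff]
    exact RingHom.finite_algebraMap.2 h4
  have q2 : Flat q := by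
    rw [Flat.SpecMap_iff]
    exact RingHom.flat_algebraMap_iff.2 h5
  have q3 : LocallyOfFinitePresentation q := by
    exact LocallyOfFinitePresentation.iff_locallyOfFiniteType.2 inferInstance
  have q4 : Surjective q := by
    have hint : Algebra.IsIntegral R (integralClosure R L) := IsIntegralClosure.isIntegral_algebra R L
    refine ⟨fun x => ?_⟩
    have hf : FaithfulSMul R (integralClosure R L) := (faithfulSMul_iff_algebraMap_injective R _).mpr h6
    obtain ⟨y, hy⟩ := Algebra.IsIntegral.comap_surjective R (integralClosure R L) x
    exact ⟨y, hy⟩
  obtain ⟨Y, ⟨⟨y1, y2⟩, y3⟩, ⟨r⟩⟩ := RepFin.exists_local hg q hcov (@Smooth ⊓ @IsSeparated ⊓ @QuasiCompact)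
    ⟨⟨inferInstance, inferInstance⟩, inferInstance⟩
  have hB : K594.Cover.Cov (toUnit B) := by
    have e : (toUnit B).left = B.hom := by simp
    exact ⟨by rw [e]; infer_instance, by rw [e]; infer_instance, by rw [e]; infer_instance⟩
  have hs : Smooth (Red.bc q X).hom := inferInstanceAs (Smooth (pullback.snd X.hom q))
  exact RepFin.exists_rep_of_finite q (RepFin.isPSheaf_Fg' q) Y (fun y s _ => by
    obtain ⟨U, hU, hsU⟩ := GenTrE.exists_affine h2 (RepFin.qAct r) (RepFin.isPseudoTorsorSch_qAct r hB)
      (s : Set Y.left) s.finite_toSet
    exact ⟨U, hU, fun v hv => hsU hv⟩) r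

end K597.RepMain
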