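import Groth.Agent.NonAbH1.K597.TwForm

/-!
# Comparison of torsors with sections over a covering which differ by the same cocycle
-/

set_option autoImplicit false
set_option backward.isDefEq.respectTransparency false
set_option backward.isDefEq.respectTransparency.types false
universe u

open CategoryTheory CategoryTheory.Limits MonoidalCategory CartesianMonoidalCategory MonObj GrpObj AlgebraicGeometry
  Opposite
open Groth.Agent.Books.BorelOrb K594.Cover K551.Tors K597.TwForm

namespace K597.TwComp

variable {S : Scheme.{u}} {G X X' B : Over S} [GrpObj G] {a : AlgGrp.Action G X} {a' : AlgGrp.Action G X'}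

lemma cov_toUnit (B : Over S) [Surjective B.hom] [Flat B.hom] [LocallyOfFinitePresentation B.hom] :
    Cov (toUnit B) := by
  have e : (toUnit B).left = B.hom := by simp
  exact ⟨by rw [e]; infer_instance, by rw [e]; infer_instance, by rw [e]; infer_instance⟩

/-- **Comparison**: two torsors with sections over a covering `B` whose differences agree are isomorphic. -/
theorem nonempty_equivIso (ha : NonAbH1.IsTorsorFor Scheme.fppfPrecoverage a) (ha' : NonAbH1.IsPseudoTorsorSch a')
    (hB : Cov (toUnit B)) (x : B ⟶ X) (x' : B ⟶ X')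
    (h : ∀ (W : Over S) (b₀ b₁ : W ⟶ B), sm a' (dif ha.1 (b₀ ≫ x) (b₁ ≫ x)) (b₁ ≫ x') = b₀ ≫ x') :
    Nonempty (NonAbH1.EquivIso a a') := by
  obtain ⟨φ, hφ⟩ := cov_glue (cov_fst X hB) (sm a' (dif ha.1 (fst X B) (snd X B ≫ x)) (snd X B ≫ x'))
    (fun Z p q hpq => by
      rw [comp_sm, comp_sm, comp_dif, comp_dif, ← Category.assoc, ← Category.assoc, ← Category.assoc,
        ← Category.assoc, hpq, ← h Z (p ≫ snd X B) (q ≫ snd X B), ← mul_sm, dif_mul_dif])
  have hpt : ∀ (W : Over S) (y : W ⟶ X) (b : W ⟶ B), y ≫ φ = sm a' (dif ha.1 y (b ≫ x)) (b ≫ x') := by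
    intro W y b
    have := congrArg (lift y b ≫ ·) hφ
    simp only [lift_fst_assoc] at this
    rw [this, comp_sm, comp_dif, lift_fst, lift_snd_assoc, lift_snd_assoc]
  have heq : ∀ (W : Over S) (g : W ⟶ G) (y : W ⟶ X), sm a g y ≫ φ = sm a' g (y ≫ φ) := by
    intro W g y
    apply cov_ext (cov_fst W hB)
    rw [← Category.assoc, comp_sm, comp_sm, ← Category.assoc, hpt _ _ (snd W B), hpt _ _ (snd W B), dif_sm_left,
      mul_sm]
  have hact : a.act ≫ φ = (G ◁ φ) ≫ a'.act := by
    have := heq (G ⊗ X) (fst G X) (snd G X)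
    rw [sm, sm, lift_fst_snd, Category.id_comp] at this
    rw [this]
    congr 1
  have := isIso_of_equivariant ha ha' φ hact
  exact ⟨⟨asIso φ, hact⟩⟩

end K597.TwComp
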